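import Groth.Agent.SurfRR.Smooth
import Groth.Agent.AdjForm.Apps
import Groth.Agent.HilbPoly.Cartier
import Groth.Agent.S8914
import Groth.Agent.S1536

/-!
# Curves on surfaces
-/

set_option autoImplicit false
set_option linter.style.haveILetI false

universe u

open CategoryTheory CategoryTheory.Limits AlgebraicGeometry Opposite TopologicalSpace

namespace Groth.Agent.SurfRR

open Groth.Agent.HilbPoly Groth.Agent.QCohLib

/-- The ideal of a closed immersion cut out by one equation is invertible. -/
theorem isInvertible_idealMod {X C : Scheme.{u}} (i : C ⟶ X) [IsClosedImmersion i]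
    (hreg : RegImm.IsRegularImmersionOfCodim RegImm.Kind.regular 1 i) :
    PicF.IsInvertible (ClSub.idealMod i.ker) := by
  refine (Groth.Agent.S8914.result i.ker).2 fun x => ?_
  by_cases hx : x ∈ Set.range i
  · obtain ⟨c, rfl⟩ := hx
    obtain ⟨U, hxU, -, rs, hlen, hseq, hker⟩ := hreg.2 c
    obtain ⟨a, rfl⟩ := List.length_eq_one_iff.1 hlen
    refine ⟨U, hxU, a, ?_, ?_⟩
    · have h := (RingTheory.Sequence.isWeaklyRegular_cons_iff Γ(X, U.1) a []).1
        (RingTheory.Sequence.IsRegular.toIsWeaklyRegular hseq)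
      rw [mem_nonZeroDivisors_iff_right]
      intro y hy
      refine h.1 (show a • y = a • 0 from ?_)
      rw [smul_zero, smul_eq_mul, mul_comm]
      exact hy
    · rw [Scheme.Hom.ker_apply, hker, Ideal.ofList_singleton]
  · obtain ⟨U, hU, hxU, hUle⟩ := exists_isAffineOpen_mem_and_subset
      (U := (⟨(Set.range i)ᶜ, i.isClosedEmbedding.isClosed_range.isOpen_compl⟩ : X.Opens)) (show x ∈ (Set.range i)ᶜ from hx)
    refine ⟨⟨U, hU⟩, hxU, 1, one_mem _, ?_⟩
    rw [Scheme.Hom.ker_apply, Ideal.span_singleton_one]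
    have hbot : i ⁻¹ᵁ U = ⊥ := le_bot_iff.1 fun z hz => (hUle hz ⟨z, rfl⟩).elim
    haveI : Subsingleton Γ(C, i ⁻¹ᵁ U) := by
      rw [hbot]
      exact CommRingCat.subsingleton_of_isTerminal C.sheaf.isTerminalOfEmpty
    exact eq_top_iff.2 fun y _ => RingHom.mem_ker.2 (Subsingleton.elim _ _)

variable (k : Type u) [Field k] {X : Scheme.{u}} [X.Over (Spec (CommRingCat.of k))]
  [IsProper (X ↘ Spec (CommRingCat.of k))]

/-- The direct image of the structure sheaf along an isomorphism. -/
theorem isIso_unitToPush {Y Z : Scheme.{u}} (e : Y ⟶ Z) [IsIso e] : IsIso (ClSub.unitToPush e) := by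
  haveI := InvBasic.isQuasicoherent_structureModule Y
  haveI := InvBasic.isQuasicoherent_structureModule Z
  haveI : ((Scheme.Modules.pushforward e).obj (Coh.structureModule Y)).IsQuasicoherent := QCohLib.isQuasicoherent_pushforward e
  refine QCohLib.isIso_of_cover_bijective (fun U : Z.affineOpens => U.1) (fun U => U.2) (fun z => ?_) _ fun U => ?_
  · obtain ⟨U, hU, hz, -⟩ := exists_isAffineOpen_mem_and_subset (U := (⊤ : Z.Opens)) (Set.mem_univ z)
    exact ⟨⟨U, hU⟩, hz⟩
  · exact ConcreteCategory.bijective_of_isIso (e.app U.1)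

/-- `χ(O_X) = χ(I) + χ(O_C)`. -/
theorem euler_sub {C : Scheme.{u}} (i : C ⟶ X) [IsClosedImmersion i] (hI : PicF.IsInvertible (ClSub.idealMod i.ker)) :
    Curv2.euler k X (Coh.structureModule X) = Curv2.euler k X (ClSub.idealMod i.ker) +
      @Curv2.euler k _ C ⟨i ≫ (X ↘ Spec (CommRingCat.of k))⟩ (Coh.structureModule C) := by
  haveI : IsLocallyNoetherian X := LocallyOfFiniteType.isLocallyNoetherian (X ↘ Spec (CommRingCat.of k))
  letI : C.Over (Spec (CommRingCat.of k)) := ⟨i ≫ (X ↘ Spec (CommRingCat.of k))⟩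
  let S : ShortComplex X.Modules :=
    ShortComplex.mk (ClSub.idealModι i.ker) (ClSub.toSubscheme i.ker) (kernel.condition _)
  haveI : Epi (ClSub.toSubscheme i.ker) := epi_toSubscheme _
  haveI : Mono (ClSub.idealModι i.ker) := inferInstanceAs (Mono (kernel.ι _))
  have hS : S.ShortExact :=
    { exact := ShortComplex.exact_of_f_is_kernel _ (kernelIsKernel _)
      mono_f := inferInstanceAs (Mono (kernel.ι _))
      epi_g := inferInstanceAs (Epi (ClSub.toSubscheme i.ker)) }
  have h := euler_additive (k := k) hS (InvPow.isCoh_of_isInvertible hI)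
    (InvPow.isCoh_of_isInvertible (HilbPoly.isInvertible_structureModule X)) (isCoh_quotMod _)
  refine h.trans (congrArg (Curv2.euler k X (ClSub.idealMod i.ker) + ·) ?_)
  let j := i.ker.subschemeι
  letI : i.ker.subscheme.Over (Spec (CommRingCat.of k)) := ⟨j ≫ (X ↘ Spec (CommRingCat.of k))⟩
  haveI := InvBasic.isQuasicoherent_structureModule i.ker.subscheme
  haveI := InvBasic.isQuasicoherent_structureModule C
  haveI : IsProper (j ≫ (X ↘ Spec (CommRingCat.of k))) := inferInstance
  haveI : IsProper (i.ker.subscheme ↘ Spec (CommRingCat.of k)) := ‹IsProper (j ≫ _)›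
  haveI : IsIso i.toImage := inferInstance
  haveI := isIso_unitToPush i.toImage
  refine (euler_push j k (Coh.structureModule i.ker.subscheme)).trans ?_
  refine (euler_congr (k := k) (asIso (ClSub.unitToPush i.toImage))).trans ?_
  refine (euler_push i.toImage k (Coh.structureModule C)).trans ?_
  have e : i.toImage ≫ j ≫ (X ↘ Spec (CommRingCat.of k)) = i ≫ (X ↘ Spec (CommRingCat.of k)) := by
    rw [Scheme.Hom.toImage_imageι_assoc]
  show @Curv2.euler k _ C ⟨i.toImage ≫ j ≫ (X ↘ Spec (CommRingCat.of k))⟩ _ = _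
  rw [e]

/-- The global functions of an integral proper scheme over an algebraically closed field are constant. -/
theorem finrank_h0 [IsAlgClosed k] [IsIntegral X] : Module.finrank k (Coh.HH X (Coh.structureModule X) 0) = 1 := by
  let f := X ↘ Spec (CommRingCat.of k)
  have htg : Function.Bijective (Coh.toGlobal f) := by
    letI := (isField_of_universallyClosed k f).toField
    let φ : k →+* Γ(X, ⊤) := Coh.toGlobal f
    have hfin : φ.Finite := (finite_appTop_of_universallyClosed k f).comp
      (RingHom.Finite.of_surjective _ (Scheme.ΓSpecIso (CommRingCat.of k)).symm.commRingCatIsoToRingEquiv.surjective)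
    algebraize [φ]
    exact IsAlgClosed.algebraMap_bijective_of_isIntegral (k := k) (K := Γ(X, ⊤))
  let e := Groth.Agent.S1536.h0Equiv (Coh.structureModule X)
  let σ : k →ₗ[k] Coh.HH X (Coh.structureModule X) 0 :=
    LinearMap.toSpanSingleton k _ (e.symm (1 : Γ(X, ⊤)))
  have hσ : ∀ c : k, e (σ c) = Coh.toGlobal f c := fun c => by
    show e (Coh.toGlobal f c • e.symm (1 : Γ(X, ⊤))) = _
    rw [Groth.Agent.S1536.h0Equiv_smul]
    erw [e.apply_symm_apply]
    show (X.presheaf.map (homOfLE (le_refl (⊤ : X.Opens))).op).hom (Coh.toGlobal f c) * (1 : Γ(X, ⊤)) =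
      (Coh.toGlobal f c : Γ(X, ⊤))
    rw [_root_.mul_one, Subsingleton.elim (homOfLE (le_refl (⊤ : X.Opens))) (𝟙 _), op_id, CategoryTheory.Functor.map_id]
    rfl
  have : Function.Bijective σ :=
    (Function.Bijective.of_comp_iff' e.bijective σ).mp (by rw [show (e ∘ σ) = Coh.toGlobal f from funext hσ]; exact htg)
  rw [← (LinearEquiv.ofBijective σ this).finrank_eq, Module.finrank_self]

end Groth.Agent.SurfRR
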