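import Groth.Agent.SurfRR.Basic
import Groth.Agent.AdjForm.SmoothDim
import Groth.Agent.AdjForm.Main
import Groth.Agent.SmoothDense.Basic
import Groth.Agent.S5668

/-!
# Duality for smooth projective surfaces
-/

set_option autoImplicit false
set_option linter.style.haveILetI false
attribute [local instance] HasDerivedCategory.standard

universe u

open CategoryTheory CategoryTheory.Limits AlgebraicGeometry

namespace Groth.Agent.SurfRR

variable {k : Type u} [Field k] [IsAlgClosed k] {X : Scheme.{u}} [X.Over (Spec (CommRingCat.of k))]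

/-- A closed subscheme of projective space is proper. -/
theorem isProper_of_proj (hproj : ∃ (n : ℕ) (ι : X ⟶ CohB1.ProjSpace n k), IsClosedImmersion ι ∧
    ι ≫ CohB1.ProjSpace.toSpec n k = (X ↘ (Spec (CommRingCat.of k)))) :
    IsProper (X ↘ Spec (CommRingCat.of k)) := by
  obtain ⟨n, ι, hι, he⟩ := hproj
  haveI := hι
  haveI : IsProper (CohB1.ProjSpace.toSpec n k) := Groth.Agent.InvPow.isProper_toSpec n k
  rw [← he]
  infer_instance

/-- Regular surfaces are smooth of relative dimension two. -/
theorem smooth_two [IsIntegral X] [LocallyOfFiniteType (X ↘ Spec (CommRingCat.of k))]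
    (hdim : topologicalKrullDim X = 2) (hreg : ∀ x : X, IsRegularLocalRing (X.presheaf.stalk x)) :
    SmoothOfRelativeDimension 2 (X ↘ Spec (CommRingCat.of k)) := by
  haveI : Smooth (X ↘ Spec (CommRingCat.of k)) := Scheme.Hom.smoothLocus_eq_top_iff.1 (top_le_iff.1 fun x _ =>
    (SmoothDense.mem_smoothLocus_iff_regular (X ↘ Spec (CommRingCat.of k)) x).2 (hreg x))
  exact AdjForm.smoothOfRelativeDimension_of_irreducible _ 2 hdim

/-- Canonical sheaves of regular projective surfaces are invertible and dualizing. -/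
theorem canonical_spec [IsIntegral X] (hdim : topologicalKrullDim X = 2)
    (hreg : ∀ x : X, IsRegularLocalRing (X.presheaf.stalk x))
    (hproj : ∃ (n : ℕ) (ι : X ⟶ CohB1.ProjSpace n k), IsClosedImmersion ι ∧
      ι ≫ CohB1.ProjSpace.toSpec n k = (X ↘ (Spec (CommRingCat.of k))))
    (W : X.Modules) (hW : ExtPow.IsExtPow 2 (Omega.sheaf (X ↘ (Spec (CommRingCat.of k)))) W) :
    PicF.IsInvertible W ∧ HasDuality k W := by
  haveI := isProper_of_proj hproj
  haveI := smooth_two (k := k) hdim hreg
  haveI : ConnectedSpace X := inferInstance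
  obtain ⟨n, ι, hι, he⟩ := hproj
  haveI := hι
  refine ⟨?_, fun F _ hF p hp => Groth.Agent.S5668.result k 2 n X ι he W hW F hF p hp⟩
  haveI : IsLocallyNoetherian X := LocallyOfFiniteType.isLocallyNoetherian (X ↘ Spec (CommRingCat.of k))
  obtain ⟨φ, hφ⟩ := hW
  exact AdjForm.isInvertible_omegaP φ hφ

end Groth.Agent.SurfRR
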