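import Groth.Agent.SurfRR.Basic
import Groth.Agent.IntTh.Surface
import Groth.Agent.S2329

/-!
# Effective classes and the Hodge index inequality on surfaces
-/

set_option autoImplicit false
set_option linter.style.haveILetI false

universe u

open CategoryTheory CategoryTheory.Limits AlgebraicGeometry

namespace Groth.Agent.SurfRR

open Groth.Agent.HilbPoly Groth.Agent.IntTh

variable (k : Type u) [Field k] {X : Scheme.{u}} [X.Over (Spec (CommRingCat.of k))]
  [IsProper (X ↘ Spec (CommRingCat.of k))]

/-- An effective class has nonnegative degree against an ample module. -/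
theorem inum_nonneg_of_section [IsIntegral X] (hdim : topologicalKrullDim X ≤ 2) {A H : X.Modules}
    (hA : PicF.IsInvertible A) (h : Nontrivial (Coh.HH X A 0)) (hH : CohB1.IsAmple H) :
    0 ≤ inum k [A, H] (Coh.structureModule X) := by
  obtain ⟨σ, hσ⟩ := nonzero_section_of_HH h
  have hl : Inv [H] := fun B hB => by rw [List.mem_singleton.1 hB]; exact hH.1
  obtain ⟨hQ, hQd, -, e⟩ := inum_cut k hA σ hσ hl (hdim.trans (by simp))
  obtain ⟨ι, _, m, W, j, hj, -, hsum⟩ := inum_eq_sum_subvarieties k hl hQ hQd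
  rw [e, hsum [H] hl rfl]
  refine Finset.sum_nonneg fun i _ => ?_
  obtain ⟨h1, -, -, h4⟩ := hj i
  haveI := h1
  exact mul_nonneg (Int.natCast_nonneg _) (inumOn_pos_of_isAmple k hH (j i) (d := 1) h4).le

theorem dim_support_le (hdim : topologicalKrullDim X ≤ 2) :
    topologicalKrullDim (CohB1.support (Coh.structureModule X)) ≤ (((1 : ℕ) + 1 : ℕ) : WithBot ℕ∞) :=
  ((topologicalKrullDim_subspace_le X _).trans hdim).trans (by norm_num)

/-- The pairing is additive. -/
theorem inum_tensor (hdim : topologicalKrullDim X ≤ 2) {A B C : X.Modules} (hA : PicF.IsInvertible A)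
    (hB : PicF.IsInvertible B) (hC : PicF.IsInvertible C) :
    inum k [CohB1.tensorMod A B, C] (Coh.structureModule X) =
      inum k [A, C] (Coh.structureModule X) + inum k [B, C] (Coh.structureModule X) := by
  haveI : IsLocallyNoetherian X := LocallyOfFiniteType.isLocallyNoetherian (X ↘ Spec (CommRingCat.of k))
  exact inum_head_tensor k hA hB (l := [C]) (fun D hD => by rw [List.mem_singleton.1 hD]; exact hC)
    (InvPow.isCoh_of_isInvertible (HilbPoly.isInvertible_structureModule X)) (dim_support_le hdim)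

/-- The pairing on powers. -/
theorem inum_pow (hdim : topologicalKrullDim X ≤ 2) {A C : X.Modules} (hA : PicF.IsInvertible A)
    (hC : PicF.IsInvertible C) (n : ℕ) :
    inum k [CohB1.tensorPow A n, C] (Coh.structureModule X) = (n : ℤ) * inum k [A, C] (Coh.structureModule X) := by
  haveI : IsLocallyNoetherian X := LocallyOfFiniteType.isLocallyNoetherian (X ↘ Spec (CommRingCat.of k))
  exact inum_head_pow k hA (l := [C]) (fun D hD => by rw [List.mem_singleton.1 hD]; exact hC)
    (InvPow.isCoh_of_isInvertible (HilbPoly.isInvertible_structureModule X)) (dim_support_le hdim) n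

/-- The pairing on inverses. -/
theorem inum_inv (hdim : topologicalKrullDim X ≤ 2) {A B C : X.Modules} (hA : PicF.IsInvertible A)
    (e : CohB1.tensorMod A B ≅ Coh.structureModule X) (hC : PicF.IsInvertible C) :
    inum k [B, C] (Coh.structureModule X) = -inum k [A, C] (Coh.structureModule X) := by
  haveI : IsLocallyNoetherian X := LocallyOfFiniteType.isLocallyNoetherian (X ↘ Spec (CommRingCat.of k))
  exact inum_head_inverse k hA (NegVanish.isInvertible_of_inverse hA ⟨e⟩) ⟨e⟩ (l := [C])
    (fun D hD => by rw [List.mem_singleton.1 hD]; exact hC)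
    (InvPow.isCoh_of_isInvertible (HilbPoly.isInvertible_structureModule X)) (dim_support_le hdim)

/-- `H²(L)` vanishes when `(L·H) > (W·H)`. -/
theorem subsingleton_h2 [IsIntegral X] (hdim : topologicalKrullDim X ≤ 2) {W : X.Modules} (hW : PicF.IsInvertible W)
    (hdual : HasDuality k W) {L H : X.Modules} (hL : PicF.IsInvertible L) (hH : CohB1.IsAmple H)
    (h : inum k [W, H] (Coh.structureModule X) < inum k [L, H] (Coh.structureModule X)) :
    Subsingleton (Coh.HH X L 2) := by
  obtain ⟨M, ⟨e⟩⟩ := NegVanish.exists_inverse hL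
  have hM : PicF.IsInvertible M := NegVanish.isInvertible_of_inverse hL ⟨e⟩
  haveI : ModSite.HasSheafHom (O := X.sheaf) L := Groth.Agent.ModGroth.hasSheafHom (O := X.sheaf) L
  haveI : DCoh.HasSheafHom L :=
    ((ModSite.sheafHomAdj (O := X.sheaf) L).ofNatIsoLeft (Groth.Agent.ModGroth.tensorSymm (O := X.sheaf) L).symm).isLeftAdjoint
  obtain ⟨c⟩ := ProjTwist.nonempty_tensorMod_comm M L
  obtain ⟨e1⟩ := CohDual.nonempty_homMod_iso_of_inverse M L ⟨c ≪≫ e⟩ ⟨e⟩ W
  let eH : (DCoh.sheafHom L).obj W ≅ CohB1.tensorMod W M := ((SSExist.homXIso L).app W).symm ≪≫ e1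
  obtain ⟨f1⟩ := hdual L (InvPow.isFinLocFree_of_isInvertible hL) 2 le_rfl
  obtain ⟨f2⟩ := SSExist.nonempty_HH_linearEquiv_of_iso (A := k) eH 0
  have h0 : Subsingleton (Coh.HH X (CohB1.tensorMod W M) 0) := by
    by_contra hn
    have := inum_nonneg_of_section k hdim (InvPow.isInvertible_tensorMod hW hM) (not_subsingleton_iff_nontrivial.1 hn) hH
    rw [inum_tensor k hdim hW hM hH.1, inum_inv k hdim hL e hH.1] at this
    linarith
  have hsub : Subsingleton (Module.Dual k (Coh.HH X L 2)) := (f1.trans f2).toEquiv.subsingleton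
  haveI : Module.Free k (Coh.HH X L 2) := Module.Free.of_divisionRing k _
  haveI : Module.Projective k (Coh.HH X L 2) := Module.Projective.of_free
  exact (Module.subsingleton_dual_iff k).1 hsub

/-- Positive square and positive degree give sections of all large powers. -/
theorem eventually_sections [IsIntegral X] (hdim : topologicalKrullDim X ≤ 2) {W : X.Modules}
    (hW : PicF.IsInvertible W) (hdual : HasDuality k W) {L H : X.Modules} (hL : PicF.IsInvertible L)
    (hH : CohB1.IsAmple H) (hLL : 0 < inum k [L, L] (Coh.structureModule X))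
    (hLH : 0 < inum k [L, H] (Coh.structureModule X)) :
    ∃ N : ℕ, ∀ n : ℕ, N ≤ n → Nontrivial (Coh.HH X (CohB1.tensorPow L n) 0) := by
  haveI : IsLocallyNoetherian X := LocallyOfFiniteType.isLocallyNoetherian (X ↘ Spec (CommRingCat.of k))
  let a := (inum k [W, H] (Coh.structureModule X)).natAbs
  let b := (inum k [L, W] (Coh.structureModule X)).natAbs
  let c := (Curv2.euler k X (Coh.structureModule X)).natAbs
  refine ⟨a + b + 2 * c + 1, fun n hn => ?_⟩
  have hP := InvPow.isInvertible_tensorPow hL n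
  have hv := subsingleton_h2 k hdim hW hdual hP hH (by
    rw [inum_pow k hdim hL hH.1]
    have h1 : inum k [W, H] (Coh.structureModule X) ≤ (a : ℤ) := Int.le_natAbs
    have h2 : (a : ℤ) < n := by omega
    nlinarith)
  have hrr := riemann_roch k hdim hW hdual hP
  rw [intNum_pair k hdim hP hP, intNum_pair k hdim hP hW, inum_pow k hdim hL hP, inum_pow k hdim hL hW,
    inum_swap k hL hP, inum_pow k hdim hL hL] at hrr
  have hs := euler_eq k hdim (InvPow.isCoh_of_isInvertible hP)
  rw [Module.finrank_zero_of_subsingleton (M := Coh.HH X (CohB1.tensorPow L n) 2)] at hs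
  refine Module.nontrivial_of_finrank_pos (R := k) ?_
  have h1 : inum k [L, W] (Coh.structureModule X) ≤ (b : ℤ) := Int.le_natAbs
  have h2 : -(c : ℤ) ≤ Curv2.euler k X (Coh.structureModule X) := by omega
  have h3 : (b : ℤ) + 2 * c + 1 ≤ n := by omega
  have hn0 : (0 : ℤ) ≤ n := Int.natCast_nonneg n
  have h4 : (n : ℤ) * inum k [L, W] (Coh.structureModule X) ≤ (n : ℤ) * b := mul_le_mul_of_nonneg_left h1 hn0
  have h5 : (n : ℤ) * ((n : ℤ) * 1) ≤ (n : ℤ) * ((n : ℤ) * inum k [L, L] (Coh.structureModule X)) :=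
    mul_le_mul_of_nonneg_left (mul_le_mul_of_nonneg_left hLL hn0) hn0
  have h6 : 0 < Curv2.euler k X (CohB1.tensorPow L n) := by nlinarith
  push_cast at hs
  omega

/-- A class with positive square is not orthogonal to an ample module. -/
theorem inum_ne_zero [IsIntegral X] (hdim : topologicalKrullDim X = 2) {W : X.Modules}
    (hW : PicF.IsInvertible W) (hdual : HasDuality k W) {L H : X.Modules} (hL : PicF.IsInvertible L)
    (hH : CohB1.IsAmple H) (hLL : 0 < inum k [L, L] (Coh.structureModule X)) :
    inum k [L, H] (Coh.structureModule X) ≠ 0 := fun h0 => by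
  haveI : X.IsSeparated := InvPow.isSeparated_of_isAmple hH
  haveI : CompactSpace X := hH.2.1
  obtain ⟨m, -, hm⟩ := Groth.Agent.S2329.result X H L hH hL
  obtain ⟨hA, -⟩ := hm m le_rfl
  have hHm := InvPow.isInvertible_tensorPow hH.1 m
  have hLA : 0 < inum k [L, CohB1.tensorMod (CohB1.tensorPow H m) L] (Coh.structureModule X) := by
    rw [inum_swap k hL (InvPow.isInvertible_tensorMod hHm hL), inum_tensor k hdim.le hHm hL hL,
      inum_pow k hdim.le hH.1 hL, inum_swap k hH.1 hL, h0]
    linarith
  obtain ⟨N, hN⟩ := eventually_sections k hdim.le hW hdual hL hA hLL hLA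
  obtain ⟨σ, hσ⟩ := nonzero_section_of_HH (hN (N + 1) (Nat.le_succ N))
  have := pos_of_section k hdim hL hLL (Nat.succ_pos N) σ hσ hH
  omega

/-- Bilinearity in natural combinations. -/
theorem inum_comb (hdim : topologicalKrullDim X ≤ 2) {A B C : X.Modules} (hA : PicF.IsInvertible A)
    (hB : PicF.IsInvertible B) (hC : PicF.IsInvertible C) (a b : ℕ) :
    inum k [CohB1.tensorMod (CohB1.tensorPow A a) (CohB1.tensorPow B b), C] (Coh.structureModule X) =
      (a : ℤ) * inum k [A, C] (Coh.structureModule X) + (b : ℤ) * inum k [B, C] (Coh.structureModule X) := by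
  rw [inum_tensor k hdim (InvPow.isInvertible_tensorPow hA a) (InvPow.isInvertible_tensorPow hB b) hC,
    inum_pow k hdim hA hC, inum_pow k hdim hB hC]

/-- **Hodge index inequality.** -/
theorem inum_self_nonpos [IsIntegral X] (hdim : topologicalKrullDim X = 2) {W : X.Modules}
    (hW : PicF.IsInvertible W) (hdual : HasDuality k W) {L M H : X.Modules} (hL : PicF.IsInvertible L)
    (hM : PicF.IsInvertible M) (hH : CohB1.IsAmple H) (hLL : 0 < inum k [L, L] (Coh.structureModule X))
    (hLM : inum k [L, M] (Coh.structureModule X) = 0) :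
    inum k [M, M] (Coh.structureModule X) ≤ 0 := by
  by_contra! hMM
  wlog hx : 0 < inum k [L, H] (Coh.structureModule X) generalizing L
  · obtain ⟨L', ⟨e⟩⟩ := NegVanish.exists_inverse hL
    have hL' : PicF.IsInvertible L' := NegVanish.isInvertible_of_inverse hL ⟨e⟩
    have hne := inum_ne_zero k hdim hW hdual hL hH hLL
    refine this hL' ?_ ?_ ?_
    · rw [inum_inv k hdim.le hL e hL', inum_swap k hL hL', inum_inv k hdim.le hL e hL, neg_neg]
      exact hLL
    · rw [inum_inv k hdim.le hL e hM, hLM, neg_zero]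
    · rw [inum_inv k hdim.le hL e hH.1]
      omega
  wlog hy : inum k [M, H] (Coh.structureModule X) < 0 generalizing M
  · obtain ⟨M', ⟨e⟩⟩ := NegVanish.exists_inverse hM
    have hM' : PicF.IsInvertible M' := NegVanish.isInvertible_of_inverse hM ⟨e⟩
    have hne := inum_ne_zero k hdim hW hdual hM hH hMM
    refine this hM' ?_ ?_ ?_
    · rw [inum_inv k hdim.le hM e hM', inum_swap k hM hM', inum_inv k hdim.le hM e hM, neg_neg]
      exact hMM
    · rw [inum_swap k hL hM', inum_inv k hdim.le hM e hL, inum_swap k hM hL, hLM, neg_zero]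
    · rw [inum_inv k hdim.le hM e hH.1]
      omega
  obtain ⟨a, ha⟩ : ∃ a : ℕ, (a : ℤ) = -inum k [M, H] (Coh.structureModule X) := ⟨_, Int.toNat_of_nonneg (by omega)⟩
  obtain ⟨b, hb⟩ : ∃ b : ℕ, (b : ℤ) = inum k [L, H] (Coh.structureModule X) := ⟨_, Int.toNat_of_nonneg (by omega)⟩
  let N := CohB1.tensorMod (CohB1.tensorPow L a) (CohB1.tensorPow M b)
  have hN : PicF.IsInvertible N :=
    InvPow.isInvertible_tensorMod (InvPow.isInvertible_tensorPow hL a) (InvPow.isInvertible_tensorPow hM b)
  refine inum_ne_zero k hdim hW hdual hN hH ?_ ?_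
  · rw [inum_comb k hdim.le hL hM hN, inum_swap k hL hN, inum_swap k hM hN, inum_comb k hdim.le hL hM hL,
      inum_comb k hdim.le hL hM hM, inum_swap k hM hL, hLM]
    have ha0 : (0 : ℤ) < a := by omega
    have hb0 : (0 : ℤ) < b := by omega
    nlinarith [mul_pos (mul_pos ha0 ha0) hLL, mul_pos (mul_pos hb0 hb0) hMM]
  · rw [inum_comb k hdim.le hL hM hH.1, ha, hb]
    ring

end Groth.Agent.SurfRR
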