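import Groth.Agent.SurfRR.Smooth
import Groth.Agent.AdjForm.ExtExists
import Groth.Agent.AdjForm.Frame
import Groth.Agent.InvPow.Ample
import Groth.Agent.ProjTwist.Ample
import Groth.Agent.ProjPoint.Basic

/-!
# Canonical and ample modules on a smooth projective surface
-/

set_option autoImplicit false
set_option linter.style.haveILetI false

universe u

open CategoryTheory CategoryTheory.Limits AlgebraicGeometry

namespace Groth.Agent.SurfRR

variable {k : Type u} [Field k] {X : Scheme.{u}} [X.Over (Spec (CommRingCat.of k))]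

/-- The pullback of `O(1)` along a closed immersion is ample. -/
theorem isAmple_hyperplane {N : ℕ} (ι : X ⟶ CohB1.ProjSpace N k) [IsClosedImmersion ι]
    [IsProper (X ↘ Spec (CommRingCat.of k))] :
    CohB1.IsAmple ((Scheme.Modules.pullback ι).obj (Twist.twistProjSpace N k 1)) := by
  haveI : CompactSpace X := QuasiCompact.compactSpace_of_compactSpace (X ↘ Spec (CommRingCat.of k))
  haveI : IsProper (CohB1.ProjSpace.toSpec N k) := Groth.Agent.InvPow.isProper_toSpec N k
  haveI hqc : QuasiCompact (CohB1.ProjSpace.toSpec N k) := inferInstance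
  haveI hcs : CompactSpace ↥(CohB1.ProjSpace N k) :=
    @QuasiCompact.compactSpace_of_compactSpace _ _ (CohB1.ProjSpace.toSpec N k) hqc inferInstance
  haveI : CompactSpace ↥(Proj (CohB1.polyGrading N k)) := hcs
  have hA : CohB1.IsAmple (Twist.twist (CohB1.polyGrading N k) ((1 : ℕ) : ℤ)) :=
    Groth.Agent.ProjTwist.isAmple_twist _ one_pos fun y => by
      obtain ⟨j, hj⟩ := TopologicalSpace.Opens.mem_iSup.mp
        ((Groth.Agent.ProjPoint.iSup_basicOpen_X (R := k) (n := N)).ge (TopologicalSpace.Opens.mem_top y))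
      exact ⟨MvPolynomial.X j, Groth.Agent.ProjPoint.X_mem j, hj⟩
  exact Groth.Agent.InvPow.isAmple_pullback (L := Twist.twist (CohB1.polyGrading N k) ((1 : ℕ) : ℤ)) hA ι fun y => by
    obtain ⟨U, hU, hyU, -⟩ := exists_isAffineOpen_mem_and_subset
      (TopologicalSpace.Opens.mem_top (ι y) : ι y ∈ (⊤ : (CohB1.ProjSpace N k).Opens))
    exact ⟨U, hyU, hU.preimage ι⟩

/-- A canonical sheaf exists and is dualizing. -/
theorem exists_canonical [IsAlgClosed k] [IsIntegral X] (hdim : topologicalKrullDim X = 2)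
    (hreg : ∀ x : X, IsRegularLocalRing (X.presheaf.stalk x))
    (hproj : ∃ (n : ℕ) (ι : X ⟶ CohB1.ProjSpace n k), IsClosedImmersion ι ∧
      ι ≫ CohB1.ProjSpace.toSpec n k = (X ↘ (Spec (CommRingCat.of k)))) :
    ∃ W : X.Modules, PicF.IsInvertible W ∧ HasDuality k W := by
  haveI := isProper_of_proj hproj
  haveI := smooth_two (k := k) hdim hreg
  haveI := ConormalSection.omega_isQuasicoherent (X ↘ Spec (CommRingCat.of k))
  obtain ⟨W, hW, -⟩ := AdjForm.exists_isExtPow (Omega.sheaf (X ↘ Spec (CommRingCat.of k))) 2 fun x => by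
    obtain ⟨V, hxV, -, hV, -, b⟩ := AdjForm.exists_frame (X ↘ Spec (CommRingCat.of k)) 2 x ⊤ trivial
    exact ⟨V, hxV, hV, b⟩
  exact ⟨W, canonical_spec hdim hreg hproj W hW⟩

end Groth.Agent.SurfRR
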