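import Groth.Agent.SurfRR.AmpleCone
import Groth.Agent.CurveDeg.Basic
import Groth.Agent.InvPow.Ample
import Groth.Agent.HilbPoly.Components

/-!
# Nakai's description of the ample cone of a surface
-/

set_option autoImplicit false
set_option linter.style.haveILetI false

universe u

open CategoryTheory CategoryTheory.Limits AlgebraicGeometry TopologicalSpace NumR

namespace Groth.Agent.SurfRR

open Groth.Agent.HilbPoly Groth.Agent.IntTh Groth.Agent.InvBasic Groth.Agent.InvPow Groth.Agent.ProjUniv

variable {k : Type u} [Field k] {X : Scheme.{u}} [X.Over (Spec (CommRingCat.of k))]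
  [IsProper (X ↘ (Spec (CommRingCat.of k)))] [IsIntegral X]

omit [X.Over (Spec (CommRingCat.of k))] [IsProper (X ↘ (Spec (CommRingCat.of k)))] in
/-- A closed immersion onto an integral scheme of the same dimension is an isomorphism. -/
theorem isIso_of_dim_two (hdim : topologicalKrullDim X = 2) {W : Scheme.{u}} (j : W ⟶ X) [IsClosedImmersion j]
    [IsIntegral W] (hW : topologicalKrullDim W = 2) : IsIso j := by
  have hr : Set.range j = Set.univ := by
    by_contra hne
    have h1 := dim_add_one_le j.isClosedEmbedding.isClosed_range (IrreducibleSpace.isIrreducible_univ X) isClosed_univ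
      (Set.ssubset_univ_iff.2 hne) (Set.range_nonempty _)
    rw [← CurveDeg.dim_source j, hW] at h1
    have h2 : topologicalKrullDim (Set.univ : Set X) ≤ 2 := (topologicalKrullDim_subspace_le X _).trans hdim.le
    exact absurd (h1.trans h2) (by decide)
  have hk : (𝟙 X : X ⟶ X).ker = j.ker := by
    rw [ker_eq_vanishingIdeal j (C := (⊤ : Closeds X)) (by rw [hr]; rfl),
      ker_eq_vanishingIdeal (𝟙 X) (C := (⊤ : Closeds X)) (by simp)]
  haveI := IsClosedImmersion.isIso_lift (𝟙 X) j hk
  have e : IsClosedImmersion.lift (𝟙 X) j hk.le = j := by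
    have := IsClosedImmersion.lift_fac (𝟙 X) j hk.le
    rwa [Category.comp_id] at this
  rw [← e]
  infer_instance

/-- Nakai's criterion for a surface. -/
theorem isAmple_of_pos (hdim : topologicalKrullDim X = 2) {L : X.Modules} (hL : PicF.IsInvertible L)
    (hLL : 0 < inum k [L, L] (Coh.structureModule X))
    (hC : ∀ (W : Scheme.{u}) (j : W ⟶ X) [IsClosedImmersion j] [IsIntegral W], topologicalKrullDim W = 1 →
      0 < inumOn k j [L]) : CohB1.IsAmple L := by
  refine isAmple_of_inumOn_pos k hL fun W j _ _ d hd hW => ?_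
  have hle : topologicalKrullDim W ≤ 2 := by
    rw [CurveDeg.dim_source j]
    exact (topologicalKrullDim_subspace_le X _).trans hdim.le
  rw [hW] at hle
  have hd2 : d ≤ 2 := by exact_mod_cast hle
  interval_cases d
  · exact hC W j (hW.trans Nat.cast_one)
  · haveI := isIso_of_dim_two hdim j (hW.trans Nat.cast_ofNat)
    haveI := InvBasic.isQuasicoherent_structureModule W
    haveI := isIso_unitToPush j
    have hl : Inv [L, L] := fun A hA => by
      rcases List.mem_cons.1 hA with rfl | hA
      · exact hL
      · rw [List.mem_singleton.1 hA]; exact hL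
    show 0 < inumOn k j [L, L]
    rw [inumOn, ← inum_push k j hl _ (InvBasic.isQuasicoherent_structureModule W),
      ← inum_congr k [L, L] (asIso (ClSub.unitToPush j))]
    exact hLL

omit [IsIntegral X] in
/-- A power with a section not vanishing identically on a curve has nonnegative degree on it. -/
theorem inumOn_nonneg_of_section {L : X.Modules} (hL : PicF.IsInvertible L) {n : ℕ} (hn : 0 < n)
    (σ : Γ(CohB1.tensorPow L n, ⊤)) {W : Scheme.{u}} (j : W ⟶ X) [IsClosedImmersion j] [IsIntegral W]
    (hW : topologicalKrullDim W = 1)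
    (hmeet : (Set.range j ∩ (genOpen (InvPow.isInvertible_tensorPow hL n) σ : Set X)).Nonempty) :
    0 ≤ inumOn k j [L] := by
  letI : W.Over (Spec (CommRingCat.of k)) := ⟨j ≫ (X ↘ Spec (CommRingCat.of k))⟩
  haveI : IsProper (W ↘ Spec (CommRingCat.of k)) := inferInstanceAs (IsProper (j ≫ (X ↘ Spec (CommRingCat.of k))))
  have hLj := ProjUniv.isInvertible_pullback j hL
  obtain ⟨τ, hτ⟩ := (InvPow.trPull j hL).exists_map hL (k := n) (one_mul n) σ
  obtain ⟨_, ⟨w, rfl⟩, hw⟩ := hmeet
  have h := CurveDeg.deg_nonneg_of_section k hW.le (InvPow.isInvertible_tensorPow hLj n) τ ⟨w, hτ.ge hw⟩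
  rw [CurveDeg.deg_tensorPow k hW.le hLj n] at h
  have h2 : 0 ≤ Curv2.deg k W ((Scheme.Modules.pullback j).obj L) 1 :=
    nonneg_of_mul_nonneg_right h (by exact_mod_cast hn)
  rw [inumOn_single]
  rw [Curv2.deg] at h2
  push_cast at h2
  linarith

omit [X.Over (Spec (CommRingCat.of k))] [IsProper (X ↘ (Spec (CommRingCat.of k)))] in
/-- Only finitely many integral curves lie in a proper closed subset of a surface. -/
theorem finite_curves_le [IsNoetherian X] (hdim : topologicalKrullDim X = 2) {Z : Set X} (hZ : IsClosed Z)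
    (hne : Z ≠ Set.univ) :
    {I : X.IdealSheafData | IsIntegral I.subscheme ∧ topologicalKrullDim (I.support : Set X) = 1 ∧
      (I.support : Set X) ⊆ Z}.Finite := by
  obtain ⟨S, hSf, hSi, hSs⟩ := NoetherianSpace.exists_finite_set_closeds_irreducible (⟨Z, hZ⟩ : Closeds X)
  refine (hSf.image Scheme.IdealSheafData.vanishingIdeal).subset ?_
  rintro I ⟨hI, hd, hsub⟩
  haveI := hI
  have hirr : IsIrreducible (I.support : Set X) := by
    rw [← I.range_subschemeι, ← Set.image_univ]
    exact (IrreducibleSpace.isIrreducible_univ I.subscheme).image _ I.subschemeι.continuous.continuousOn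
  lift S to Finset (Closeds X) using hSf
  have hunion : (I.support : Set X) ⊆ ⋃₀ ((SetLike.coe : Closeds X → Set X) '' (S : Set (Closeds X))) := by
    refine hsub.trans (le_of_eq ?_)
    rw [show Z = ((⟨Z, hZ⟩ : Closeds X) : Set X) from rfl, hSs, ← Finset.sup_id_eq_sSup, Closeds.coe_finset_sup,
      Finset.sup_eq_iSup, Set.sUnion_image]
    rfl
  classical
  obtain ⟨T', hT', hIT⟩ := isIrreducible_iff_sUnion_isClosed.1 hirr (S.image (SetLike.coe : Closeds X → Set X))
    (fun t ht => by
      obtain ⟨T, -, rfl⟩ := Finset.mem_image.1 ht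
      exact T.isClosed) (by rwa [Finset.coe_image])
  obtain ⟨T, hT, rfl⟩ := Finset.mem_image.1 hT'
  refine ⟨T, hT, ?_⟩
  have hTI : (T : Set X) = (I.support : Set X) := by
    by_contra hcon
    have h1 := dim_add_one_le I.support.isClosed (hSi T hT) T.isClosed (ssubset_of_subset_of_ne hIT (Ne.symm hcon)) hirr.nonempty
    have hTZ : (T : Set X) ⊆ Z := by
      rw [show Z = ((⟨Z, hZ⟩ : Closeds X) : Set X) from rfl, hSs]
      exact (le_sSup (show T ∈ (S : Set (Closeds X)) from hT) : T ≤ sSup (S : Set (Closeds X)))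
    have hTne : (T : Set X) ≠ Set.univ := fun h => hne (Set.eq_univ_of_univ_subset (h ▸ hTZ))
    have h2 := dim_add_one_le T.isClosed (IrreducibleSpace.isIrreducible_univ X) isClosed_univ
      (Set.ssubset_univ_iff.2 hTne) (hSi T hT).nonempty
    have h3 : topologicalKrullDim (Set.univ : Set X) ≤ 2 := (topologicalKrullDim_subspace_le X _).trans hdim.le
    rw [hd] at h1
    exact absurd ((add_le_add_left h1 1).trans (h2.trans h3)) (by decide)
  rw [← ker_eq_vanishingIdeal I.subschemeι (C := T) (by rw [Scheme.IdealSheafData.range_subschemeι, hTI]),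
    Scheme.IdealSheafData.ker_subschemeι]

end Groth.Agent.SurfRR
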