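import Groth.Agent.SurfRR.Curve
import Groth.Agent.InvExtend.CartierCriterion
import Groth.Agent.DimMaps.Basic
import Groth.Agent.GeomUnib.DimIneq
import Groth.Agent.S2821
import Groth.Agent.S8914

/-!
# Integral curves on regular surfaces are Cartier divisors
-/

set_option autoImplicit false
set_option linter.style.haveILetI false

universe u

open CategoryTheory CategoryTheory.Limits AlgebraicGeometry TopologicalSpace

namespace Groth.Agent.SurfRR

/-- The topological dimension of a scheme is the length of chains of specializations. -/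
theorem dim_eq_krullDim (X : Scheme.{u}) : topologicalKrullDim X = Order.krullDim X := by
  rw [topologicalKrullDim, Order.krullDim_eq_of_orderIso irreducibleSetEquivPoints]

/-- The generic point of a curve on an integral surface has codimension one. -/
theorem ringKrullDim_stalk_generic {X Z : Scheme.{u}} [IsIntegral X] [IsIntegral Z] (hdim : topologicalKrullDim X = 2)
    (hZ : topologicalKrullDim Z = 1) (j : Z ⟶ X) [IsClosedImmersion j] :
    ringKrullDim (X.presheaf.stalk (j (genericPoint Z))) = 1 := by
  let x := j (genericPoint Z)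
  obtain ⟨c, hc⟩ : ∃ c : Z, c ≠ genericPoint Z := by
    by_contra! h
    have : Subsingleton Z := ⟨fun a b => (h a).trans (h b).symm⟩
    have h0 : topologicalKrullDim Z ≤ 0 := topologicalKrullDim_zero_of_discreteTopology Z
    rw [hZ] at h0
    exact absurd h0 (by decide)
  have hne : x ≠ genericPoint X := fun h => by
    have hr : Set.range j = Set.univ := by
      refine Set.eq_univ_of_univ_subset ?_
      rw [← genericPoint_closure, ← j.isClosedEmbedding.isClosed_range.closure_eq]
      exact closure_mono (Set.singleton_subset_iff.2 ⟨_, h⟩)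
    let e := (j.isClosedEmbedding.isEmbedding.toHomeomorphOfSurjective (Set.range_eq_univ.1 hr))
    have := e.isEmbedding.isInducing.topologicalKrullDim_le
    have h2 := e.symm.isEmbedding.isInducing.topologicalKrullDim_le
    rw [hdim, hZ] at h2
    exact absurd h2 (by decide)
  have hlt : x < genericPoint X :=
    lt_iff_le_not_ge.2 ⟨genericPoint_specializes x, fun h => hne (Specializes.antisymm (show x ⤳ genericPoint X from h) (genericPoint_specializes x)).eq⟩
  have hlt' : j c < x := lt_iff_le_not_ge.2 ⟨(genericPoint_specializes c).map j.continuous,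
    fun h => hc (j.isClosedEmbedding.injective (Specializes.antisymm (show j c ⤳ x from h) ((genericPoint_specializes c).map j.continuous)).eq)⟩
  have h1 := GeomUnib.height_add_coheight_le x
  rw [← dim_eq_krullDim, hdim] at h1
  have h2 : Order.height x + Order.coheight x ≤ ((2 : ℕ) : ℕ∞) := WithBot.coe_le_coe.1 h1
  have h3 : Order.height (j c) + 1 ≤ Order.height x := Order.height_add_one_le hlt'
  have h4 : Order.coheight (genericPoint X) + 1 ≤ Order.coheight x := Order.coheight_add_one_le hlt
  have h5 : (1 : ℕ∞) ≤ Order.height x := le_add_self.trans h3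
  have h6 : (1 : ℕ∞) ≤ Order.coheight x := le_add_self.trans h4
  obtain ⟨a, ha⟩ := ENat.ne_top_iff_exists.1 (ne_top_of_le_ne_top (ENat.coe_ne_top 2) (le_self_add.trans h2))
  obtain ⟨b, hb⟩ := ENat.ne_top_iff_exists.1 (ne_top_of_le_ne_top (ENat.coe_ne_top 2) (le_add_self.trans h2))
  rw [← ha, ← hb] at h2
  rw [← ha] at h5
  rw [← hb] at h6
  norm_cast at h2 h5 h6
  show ringKrullDim (X.presheaf.stalk x) = 1
  rw [ringKrullDim_stalk_eq_coheight x, ← hb, show b = 1 by omega]
  rfl

/-- An integral curve on an integral regular surface has invertible ideal sheaf. -/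
theorem isInvertible_idealMod_of_regular {X C : Scheme.{u}} [IsIntegral X] [IsLocallyNoetherian X]
    (hdim : topologicalKrullDim X = 2) (hreg : ∀ x : X, IsRegularLocalRing (X.presheaf.stalk x)) (i : C ⟶ X)
    [IsClosedImmersion i] [IsIntegral C] (hC : topologicalKrullDim C = 1) :
    PicF.IsInvertible (ClSub.idealMod i.ker) := by
  refine (Groth.Agent.S8914.result i.ker).2 (InvExtend.isEffCartierIdeal_of_associatedPrimes i.ker
    (fun x _ => @Groth.Agent.S2821.result _ _ (hreg x)) fun W q hq _ => ?_)
  haveI : IsIso i.toImage := inferInstance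
  haveI : Nonempty i.ker.subscheme := ⟨i.toImage (genericPoint C)⟩
  haveI : IsIntegral i.ker.subscheme := isIntegral_of_isOpenImmersion (inv i.toImage)
  haveI : IsNoetherianRing Γ(X, W.1) := IsLocallyNoetherian.component_noetherian (X := X) W
  obtain ⟨z, hz, hass⟩ := InvExtend.exists_assoc_point_subscheme i.ker W q hq
  have hfield : IsField (i.ker.subscheme.presheaf.stalk z) := by
    rw [IsLocalRing.isField_iff_maximalIdeal_eq]
    obtain ⟨hp, a, ha⟩ := hass
    have ha0 : a ≠ 0 := fun h => hp.ne_top (by rw [ha, h]; simp)
    rw [ha, eq_bot_iff]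
    intro b hb
    obtain ⟨n, hn⟩ := hb
    rw [Submodule.mem_colon_singleton, Submodule.mem_bot, smul_eq_mul, mul_eq_zero] at hn
    exact Ideal.mem_bot.2 (eq_zero_of_pow_eq_zero (hn.resolve_right ha0))
  have hgen : z = genericPoint i.ker.subscheme := by
    obtain ⟨p, hp⟩ : genericPoint i.ker.subscheme ∈ Set.range (i.ker.subscheme.fromSpecStalk z) := by
      rw [Scheme.range_fromSpecStalk]; exact genericPoint_specializes z
    have : p = IsLocalRing.closedPoint (i.ker.subscheme.presheaf.stalk z) := by
      let _ := hfield.toField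
      exact Subsingleton.elim (α := PrimeSpectrum (i.ker.subscheme.presheaf.stalk z)) _ _
    rw [← hp, this, Scheme.fromSpecStalk_closedPoint]
  rw [← hz, hgen]
  refine ringKrullDim_stalk_generic hdim ?_ i.ker.subschemeι
  rw [← hC]
  exact le_antisymm (inv i.toImage).isEmbedding.isInducing.topologicalKrullDim_le
    i.toImage.isEmbedding.isInducing.topologicalKrullDim_le

end Groth.Agent.SurfRR
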