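import Groth.Agent.SurfRR.Curve
import Groth.Agent.InvPow.LocalIso

/-!
# Intersection of a curve with an invertible module
-/

set_option autoImplicit false
set_option linter.style.haveILetI false

universe u

open CategoryTheory CategoryTheory.Limits AlgebraicGeometry

namespace Groth.Agent.SurfRR

open Groth.Agent.HilbPoly Groth.Agent.IntTh

variable (k : Type u) [Field k] {X : Scheme.{u}} [X.Over (Spec (CommRingCat.of k))]
  [IsProper (X ↘ Spec (CommRingCat.of k))]

/-- The quotient by the ideal of a closed immersion is the direct image of the structure sheaf. -/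
theorem nonempty_quotMod_iso {Y Z : Scheme.{u}} (i : Z ⟶ Y) [IsClosedImmersion i] :
    Nonempty (ClSub.quotMod i.ker ≅ (Scheme.Modules.pushforward i).obj (Coh.structureModule Z)) := by
  haveI : IsIso i.toImage := inferInstance
  haveI := isIso_unitToPush i.toImage
  exact ⟨(Scheme.Modules.pushforward i.ker.subschemeι).mapIso (asIso (ClSub.unitToPush i.toImage)) ≪≫
    (Scheme.Modules.pushforwardComp i.toImage i.ker.subschemeι).app _ ≪≫
    (Scheme.Modules.pushforwardCongr i.toImage_imageι).app _⟩

/-- `(O(C)·L) = deg L|_C`. -/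
theorem intNum_ideal_inverse (hdim : topologicalKrullDim X ≤ 2) {C : Scheme.{u}} (i : C ⟶ X) [IsClosedImmersion i]
    (hI : PicF.IsInvertible (ClSub.idealMod i.ker)) {L L' : X.Modules} (hL : PicF.IsInvertible L)
    (e : CohB1.tensorMod L L' ≅ Coh.structureModule X) :
    FGA.intNum k X 2 ![ClSub.idealMod i.ker, L'] (Coh.structureModule X) =
      @Curv2.deg k _ C ⟨i ≫ (X ↘ Spec (CommRingCat.of k))⟩ ((Scheme.Modules.pullback i).obj L) 1 := by
  letI : C.Over (Spec (CommRingCat.of k)) := ⟨i ≫ (X ↘ Spec (CommRingCat.of k))⟩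
  haveI : IsLocallyNoetherian X := LocallyOfFiniteType.isLocallyNoetherian (X ↘ Spec (CommRingCat.of k))
  have hL' : PicF.IsInvertible L' := NegVanish.isInvertible_of_inverse hL ⟨e⟩
  have hO : Coh.IsCoh (Coh.structureModule X) := InvPow.isCoh_of_isInvertible (HilbPoly.isInvertible_structureModule X)
  have hd : topologicalKrullDim (CohB1.support (Coh.structureModule X)) ≤ (((1 : ℕ) + 1 : ℕ) : WithBot ℕ∞) :=
    ((topologicalKrullDim_subspace_le X _).trans hdim).trans (by norm_num)
  have hl : Inv [L] := fun A hA => by rw [List.mem_singleton.1 hA]; exact hL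
  rw [intNum_pair k hdim hI hL', inum_swap k hI hL',
    inum_head_inverse k hL hL' ⟨e⟩ (l := [ClSub.idealMod i.ker]) (fun A hA => by
      rw [List.mem_singleton.1 hA]; exact hI) hO hd, inum_swap k hL hI]
  let S : ShortComplex X.Modules :=
    ShortComplex.mk (ClSub.idealModι i.ker) (ClSub.toSubscheme i.ker) (kernel.condition _)
  haveI : Epi (ClSub.toSubscheme i.ker) := epi_toSubscheme _
  haveI : Mono (ClSub.idealModι i.ker) := inferInstanceAs (Mono (kernel.ι _))
  have hS : S.ShortExact :=
    { exact := ShortComplex.exact_of_f_is_kernel _ (kernelIsKernel _)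
      mono_f := inferInstanceAs (Mono (kernel.ι _))
      epi_g := inferInstanceAs (Epi (ClSub.toSubscheme i.ker)) }
  have h := inum_additive k hl hS (InvPow.isCoh_of_isInvertible hI) hO (isCoh_quotMod _)
  obtain ⟨c⟩ := ProjTwist.nonempty_tensorMod_comm (Coh.structureModule X) (ClSub.idealMod i.ker)
  have h2 : inum k [ClSub.idealMod i.ker, L] (Coh.structureModule X) =
      inum k [L] (ClSub.idealMod i.ker) - inum k [L] (Coh.structureModule X) := by
    show inum k [L] (CohB1.tensorMod (Coh.structureModule X) (ClSub.idealMod i.ker)) - _ = _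
    rw [inum_congr k [L] (c ≪≫ SecTwist.unitorR _)]
  obtain ⟨q⟩ := nonempty_quotMod_iso i
  have h3 : inum k [L] S.X₃ = Curv2.euler k C ((Scheme.Modules.pullback i).obj L) -
      Curv2.euler k C (Coh.structureModule C) := by
    refine (inum_congr k [L] q).trans ?_
    refine (inum_push k i hl _ (InvBasic.isQuasicoherent_structureModule C)).trans ?_
    obtain ⟨c'⟩ := ProjTwist.nonempty_tensorMod_comm (Coh.structureModule C) ((Scheme.Modules.pullback i).obj L)
    show Curv2.euler k C (CohB1.tensorMod _ _) - _ = _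
    rw [euler_congr (k := k) (c' ≪≫ SecTwist.unitorR _)]
    rfl
  have h4 : inum k [L] (Coh.structureModule X) = inum k [L] (ClSub.idealMod i.ker) + inum k [L] S.X₃ := h
  rw [Curv2.deg, h2]
  push_cast
  linarith

end Groth.Agent.SurfRR
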