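import Groth.Agent.SurfRR.Effective
import Groth.Agent.IntTh.Positive
import Groth.Agent.AdjForm.SmoothSetup
import Groth.Agent.HilbPoly.Positive
import Groth.Agent.HilbPoly.AsympRR
import Groth.Agent.QCohLib.StalkLoc

/-!
# Zero loci of sections on a smooth surface
-/

set_option autoImplicit false
set_option linter.style.haveILetI false
set_option backward.isDefEq.respectTransparency false

universe u

open CategoryTheory CategoryTheory.Limits AlgebraicGeometry Opposite TopologicalSpace

namespace Groth.Agent.SurfRR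

open Groth.Agent.HilbPoly Groth.Agent.IntTh Groth.Agent.InvPow Groth.Agent.InvBasic Groth.Agent.ProjUniv Groth.Agent.QCohLib Groth.Agent.CurveDeg Groth.Agent.CohFinite

variable (k : Type u) [Field k] {X : Scheme.{u}} [X.Over (Spec (CommRingCat.of k))]
  [IsProper (X ↘ Spec (CommRingCat.of k))]

/-- A nonempty zero locus of a section on a smooth surface has dimension at least one. -/
theorem one_le_dim_compl [SmoothOfRelativeDimension 2 (X ↘ Spec (CommRingCat.of k))] {A : X.Modules}
    (hA : PicF.IsInvertible A) (σ : Γ(A, ⊤)) (h : genOpen hA σ ≠ ⊤) :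
    (1 : WithBot ℕ∞) ≤ topologicalKrullDim ((genOpen hA σ : Set X)ᶜ : Set X) := by
  haveI : IsLocallyNoetherian X := LocallyOfFiniteType.isLocallyNoetherian (X ↘ Spec (CommRingCat.of k))
  haveI : CompactSpace X := QuasiCompact.compactSpace_of_compactSpace (X ↘ Spec (CommRingCat.of k))
  let Z : Set X := (genOpen hA σ : Set X)ᶜ
  have hZc : IsClosed Z := (genOpen hA σ).2.isClosed_compl
  have hZne : Z.Nonempty := Set.nonempty_compl.2 fun e => h (TopologicalSpace.Opens.ext e)
  obtain ⟨x, hxZ, hx⟩ := hZc.exists_closed_singleton hZne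
  obtain ⟨V₀, hxV₀, ℓ₀, hℓ₀⟩ := exists_isBasis hA x
  obtain ⟨V, hV, hxV, hle⟩ := exists_isAffineOpen_mem_and_subset (U := V₀) hxV₀
  have hℓ := isBasis_res hℓ₀ (hle : V ≤ V₀)
  obtain ⟨c, hc⟩ := InvPow.exists_coef hℓ (gres A σ V)
  have hgen : genOpen hA σ ⊓ V = X.basicOpen c := genOpen_inf_eq_basicOpen hA hℓ hc
  haveI : IsNoetherianRing Γ(X, V) := IsLocallyNoetherian.component_noetherian (X := X) ⟨V, hV⟩
  let p := (hV.primeIdealOf ⟨x, hxV⟩).asIdeal
  have hcp : c ∈ p := by
    by_contra hn
    have : x ∈ X.basicOpen c := (mem_basicOpen_iff_notMem_primeIdealOf hV hxV c).2 hn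
    exact hxZ (hgen.ge this).1
  obtain ⟨q, hq, hqp⟩ := Ideal.exists_minimalPrimes_le (I := Ideal.span {c}) (J := p)
    ((Ideal.span_singleton_le_iff_mem _).2 hcp)
  haveI := hq.1.1
  have hq1 : q.height ≤ 1 := Ideal.height_le_one_of_isPrincipal_of_mem_minimalPrimes _ _ hq
  have hp2 : p.height = 2 := by
    have h2 := AdjForm.ringKrullDim_stalk_closed (X ↘ Spec (CommRingCat.of k)) 2 x hx
    letI := TopCat.Presheaf.algebra_section_stalk X.presheaf (⟨x, hxV⟩ : V)
    haveI := hV.isLocalization_stalk ⟨x, hxV⟩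
    rw [IsLocalization.AtPrime.ringKrullDim_eq_height (hV.primeIdealOf ⟨x, hxV⟩).asIdeal (X.presheaf.stalk x)] at h2
    show (hV.primeIdealOf ⟨x, hxV⟩).asIdeal.height = 2
    exact WithBot.coe_injective h2
  let z := hV.fromSpec ⟨q, inferInstance⟩
  have hzx : z ⤳ x := by
    have := ((PrimeSpectrum.le_iff_specializes (⟨q, inferInstance⟩ : PrimeSpectrum Γ(X, V))
      (hV.primeIdealOf ⟨x, hxV⟩)).mp hqp).map hV.fromSpec.continuous
    rwa [hV.fromSpec_primeIdealOf ⟨x, hxV⟩] at this
  have hzV : z ∈ V := hzx.mem_open V.2 hxV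
  have hzp : hV.primeIdealOf ⟨z, hzV⟩ = ⟨q, inferInstance⟩ :=
    hV.fromSpec.isOpenEmbedding.injective (hV.fromSpec_primeIdealOf ⟨z, hzV⟩)
  have hzne : z ≠ x := fun e => by
    have e' : (⟨z, hzV⟩ : V) = ⟨x, hxV⟩ := Subtype.ext e
    have : p = q := by
      show (hV.primeIdealOf ⟨x, hxV⟩).asIdeal = q
      rw [← e', hzp]
    rw [this] at hp2
    rw [hp2] at hq1
    exact absurd hq1 (by decide)
  have hzZ : z ∈ Z := fun hz => by
    have h1 : z ∈ X.basicOpen c := hgen.le ⟨hz, hzV⟩
    rw [mem_basicOpen_iff_notMem_primeIdealOf hV hzV c, hzp] at h1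
    exact h1 (hq.1.2 (Ideal.mem_span_singleton_self c))
  have hsub : closure ({z} : Set X) ⊆ Z := hZc.closure_subset_iff.2 (Set.singleton_subset_iff.2 hzZ)
  have hss : ({x} : Set X) ⊂ closure ({z} : Set X) :=
    ⟨Set.singleton_subset_iff.2 hzx.mem_closure, fun hh => hzne (hh (subset_closure rfl))⟩
  have h0 : (0 : WithBot ℕ∞) ≤ topologicalKrullDim ({x} : Set X) := by
    haveI : Nonempty (IrreducibleCloseds ({x} : Set X)) := ⟨⟨closure {(⟨x, rfl⟩ : ({x} : Set X))},
      isIrreducible_singleton.closure, isClosed_closure⟩⟩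
    exact Order.krullDim_nonneg
  calc (1 : WithBot ℕ∞) = 0 + 1 := (zero_add 1).symm
    _ ≤ topologicalKrullDim ({x} : Set X) + 1 := add_le_add_left h0 1
    _ ≤ topologicalKrullDim (closure ({z} : Set X)) :=
        dim_add_one_le hx isIrreducible_singleton.closure isClosed_closure hss ⟨x, rfl⟩
    _ ≤ topologicalKrullDim Z := (Topology.IsEmbedding.inclusion hsub).isInducing.topologicalKrullDim_le

/-- A section with a zero has positive degree against an ample module. -/
theorem inum_pos_of_zero [IsIntegral X] [SmoothOfRelativeDimension 2 (X ↘ Spec (CommRingCat.of k))]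
    (hdim : topologicalKrullDim X ≤ 2) {A H : X.Modules} (hA : PicF.IsInvertible A) (σ : Γ(A, ⊤)) (hσ : σ ≠ 0)
    (h : genOpen hA σ ≠ ⊤) (hH : CohB1.IsAmple H) : 0 < inum k [A, H] (Coh.structureModule X) := by
  haveI : IsLocallyNoetherian X := LocallyOfFiniteType.isLocallyNoetherian (X ↘ Spec (CommRingCat.of k))
  have hl : Inv [H] := fun B hB => by rw [List.mem_singleton.1 hB]; exact hH.1
  obtain ⟨hQ, hQd, -, e⟩ := inum_cut k hA σ hσ hl (hdim.trans (by simp))
  rw [e]
  have hne := genOpen_nonempty_of_ne_zero hA hσ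
  haveI : Mono (mulSection (Coh.structureModule X) σ) :=
    mono_mulSection_invertible (HilbPoly.isInvertible_structureModule X) hA σ hne
  have hO : Coh.IsCoh (Coh.structureModule X) := InvPow.isCoh_of_isInvertible (HilbPoly.isInvertible_structureModule X)
  refine inum_pos_of_ample_module k (fun B hB => by rw [List.mem_singleton.1 hB]; exact hH) hQ (le_antisymm hQd ?_)
  refine (one_le_dim_compl k hA σ h).trans (le_trans ?_ le_rfl)
  refine (Topology.IsEmbedding.inclusion ?_).isInducing.topologicalKrullDim_le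
  intro y hy
  refine mem_support_cokernel_mulSection hO hA σ ?_ hy
  rw [HilbPoly.support_structureModule]
  trivial

/-- A nowhere vanishing section trivializes. -/
theorem nonempty_iso_of_genOpen_eq_top {A : X.Modules} (hA : PicF.IsInvertible A) (σ : Γ(A, ⊤))
    (h : genOpen hA σ = ⊤) : Nonempty (A ≅ Coh.structureModule X) := by
  haveI : IsIso (mulSection (Coh.structureModule X) σ) := by
    refine Scheme.Modules.Hom.isIso_iff_isIso_app.2 fun U => ?_
    rw [ConcreteCategory.isIso_iff_bijective]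
    exact bijective_mulSection (Coh.structureModule X) hA σ (h ▸ le_top)
  obtain ⟨c⟩ := ProjTwist.nonempty_tensorMod_comm (Coh.structureModule X) A
  exact ⟨((asIso (mulSection (Coh.structureModule X) σ)) ≪≫ c ≪≫ SecTwist.unitorR A).symm⟩

end Groth.Agent.SurfRR
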