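import Groth.Agent.SurfRR.Vanishing
import Groth.Agent.SurfRR.Curve

/-!
# Numerically trivial modules on surfaces with trivial canonical sheaf
-/

set_option autoImplicit false
set_option linter.style.haveILetI false

universe u

open CategoryTheory CategoryTheory.Limits AlgebraicGeometry

namespace Groth.Agent.SurfRR

open Groth.Agent.HilbPoly Groth.Agent.IntTh

variable (k : Type u) [Field k] {X : Scheme.{u}} [X.Over (Spec (CommRingCat.of k))]
  [IsProper (X ↘ Spec (CommRingCat.of k))]

/-- `h²(L) = h⁰(W ⊗ L⁻¹)`. -/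
theorem finrank_h2 {W L M : X.Modules} (hdual : HasDuality k W) (hL : PicF.IsInvertible L)
    (e : CohB1.tensorMod L M ≅ Coh.structureModule X) :
    Module.finrank k (Coh.HH X L 2) = Module.finrank k (Coh.HH X (CohB1.tensorMod W M) 0) := by
  haveI : ModSite.HasSheafHom (O := X.sheaf) L := Groth.Agent.ModGroth.hasSheafHom (O := X.sheaf) L
  haveI : DCoh.HasSheafHom L :=
    ((ModSite.sheafHomAdj (O := X.sheaf) L).ofNatIsoLeft (Groth.Agent.ModGroth.tensorSymm (O := X.sheaf) L).symm).isLeftAdjoint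
  obtain ⟨c⟩ := ProjTwist.nonempty_tensorMod_comm M L
  obtain ⟨e1⟩ := CohDual.nonempty_homMod_iso_of_inverse M L ⟨c ≪≫ e⟩ ⟨e⟩ W
  let eH : (DCoh.sheafHom L).obj W ≅ CohB1.tensorMod W M := ((SSExist.homXIso L).app W).symm ≪≫ e1
  obtain ⟨f1⟩ := hdual L (InvPow.isFinLocFree_of_isInvertible hL) 2 le_rfl
  obtain ⟨f2⟩ := SSExist.nonempty_HH_linearEquiv_of_iso (A := k) eH 0
  rw [← Subspace.dual_finrank_eq]
  exact (f1.trans f2).finrank_eq

/-- An effective class of degree zero is trivial. -/
theorem trivial_of_section_degree_zero [IsIntegral X] [SmoothOfRelativeDimension 2 (X ↘ Spec (CommRingCat.of k))]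
    (hdim : topologicalKrullDim X ≤ 2) {A H : X.Modules} (hA : PicF.IsInvertible A)
    (h0 : Nontrivial (Coh.HH X A 0)) (hH : CohB1.IsAmple H) (hd : inum k [A, H] (Coh.structureModule X) ≤ 0) :
    Nonempty (A ≅ Coh.structureModule X) := by
  obtain ⟨σ, hσ⟩ := nonzero_section_of_HH h0
  refine nonempty_iso_of_genOpen_eq_top hA σ ?_
  by_contra hne
  exact absurd (inum_pos_of_zero k hdim hA σ hσ hne hH) (not_lt.2 hd)

/-- On a surface with trivial canonical sheaf and `q = 0`, numerically trivial modules are trivial. -/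
theorem trivial_of_numTrivial_K3 [IsAlgClosed k] [IsIntegral X] [SmoothOfRelativeDimension 2 (X ↘ Spec (CommRingCat.of k))]
    (hdim : topologicalKrullDim X ≤ 2) (hdual : HasDuality k (Coh.structureModule X))
    (hq : Module.finrank k (Coh.HH X (Coh.structureModule X) 1) = 0) {L H : X.Modules} (hL : PicF.IsInvertible L)
    (hH : CohB1.IsAmple H) (hLL : inum k [L, L] (Coh.structureModule X) = 0)
    (hLH : inum k [L, H] (Coh.structureModule X) = 0) :
    Nonempty (L ≅ Coh.structureModule X) := by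
  haveI : IsLocallyNoetherian X := LocallyOfFiniteType.isLocallyNoetherian (X ↘ Spec (CommRingCat.of k))
  have hOinv := HilbPoly.isInvertible_structureModule X
  have hO : Coh.IsCoh (Coh.structureModule X) := InvPow.isCoh_of_isInvertible hOinv
  obtain ⟨M, ⟨e⟩⟩ := NegVanish.exists_inverse hL
  have hM : PicF.IsInvertible M := NegVanish.isInvertible_of_inverse hL ⟨e⟩
  have hrr := riemann_roch k hdim hOinv hdual hL
  rw [intNum_pair k hdim hL hL, intNum_pair k hdim hL hOinv, hLL, inum_swap k hL hOinv, inum_head_unit] at hrr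
  have hs := euler_eq k hdim (InvPow.isCoh_of_isInvertible hL)
  have hs0 := euler_eq k hdim hO
  have h2 := finrank_h2 k hdual hOinv (M := Coh.structureModule X) (SecTwist.unitorR _)
  obtain ⟨u0⟩ := SSExist.nonempty_HH_linearEquiv_of_iso (A := k) (SecTwist.unitorR (Coh.structureModule X)) 0
  rw [u0.finrank_eq, finrank_h0 k (X := X)] at h2
  rw [finrank_h0 k (X := X), hq, h2] at hs0
  have h2L := finrank_h2 k hdual hL e
  obtain ⟨c⟩ := ProjTwist.nonempty_tensorMod_comm (Coh.structureModule X) M
  obtain ⟨uM⟩ := SSExist.nonempty_HH_linearEquiv_of_iso (A := k) (c ≪≫ SecTwist.unitorR M) 0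
  rw [uM.finrank_eq] at h2L
  push_cast at hs0
  by_cases hpos : 0 < Module.finrank k (Coh.HH X L 0)
  · exact trivial_of_section_degree_zero k hdim hL (Module.nontrivial_of_finrank_pos hpos) hH hLH.le
  · have hM0 : 0 < Module.finrank k (Coh.HH X M 0) := by omega
    obtain ⟨t⟩ := trivial_of_section_degree_zero k hdim hM (Module.nontrivial_of_finrank_pos hM0) hH
      (by rw [inum_inv k hdim hL e hH.1, hLH]; simp)
    exact ⟨(SecTwist.unitorR L).symm ≪≫ (ProjTwist.nonempty_tensorMod_iso (Iso.refl L) t.symm).some ≪≫ e⟩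

end Groth.Agent.SurfRR
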