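import Groth.Agent.HilbPoly.Euler

/-!
# The start of the cohomology sequence
-/

set_option autoImplicit false
set_option linter.style.haveILetI false
set_option backward.isDefEq.respectTransparency false

universe u

open CategoryTheory CategoryTheory.Limits AlgebraicGeometry Opposite TopologicalSpace
open scoped Groth.Agent.CohVanish

namespace Groth.Agent.SurfRR

open Groth.Agent.CohVanish Groth.Agent.CechCmp Groth.Agent.CohFinite Groth.Agent.HilbPoly

variable (k : Type u) [Field k] {X : Scheme.{u}} [X.Over (Spec (CommRingCat.of k))]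
  [IsProper (X ↘ Spec (CommRingCat.of k))]

/-- If `h⁰(X₁) = 0` and `h⁰(X₂) = h⁰(X₃)`, then `h¹(X₁) ≤ h¹(X₂)`. -/
theorem finrank_h1_le {S : ShortComplex X.Modules} (hS : S.ShortExact) (h₁ : Coh.IsCoh S.X₁)
    (h₂ : Coh.IsCoh S.X₂) (h₃ : Coh.IsCoh S.X₃) (h0 : Module.finrank k (Coh.HH X S.X₁ 0) = 0)
    (he : Module.finrank k (Coh.HH X S.X₂ 0) = Module.finrank k (Coh.HH X S.X₃ 0)) :
    Module.finrank k (Coh.HH X S.X₁ 1) ≤ Module.finrank k (Coh.HH X S.X₂ 1) := by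
  let φ := Coh.toGlobal (X ↘ Spec (CommRingCat.of k))
  let T := modSES φ S hS
  let g := mapHMod T.g ⊤ 0
  let δ := T.delta ⊤ 0
  let f := mapHMod T.f ⊤ 1
  have fin : ∀ {M : X.Modules}, Coh.IsCoh M → ∀ p, Module.Finite k (HMod (modRSh φ M) ⊤ p) :=
    fun hM p => allFin_of_isProper (X ↘ Spec (CommRingCat.of k)) _ hM p
  have hd : ∀ (M : X.Modules) p, Module.finrank k (Coh.HH X M p) = Module.finrank k (HMod (modRSh φ M) ⊤ p) :=
    fun M p => (hhEquiv M p).finrank_eq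
  haveI : Module.Finite k (HMod T.X₁ ⊤ 0) := fin h₁ 0
  haveI : Module.Finite k (HMod T.X₂ ⊤ 0) := fin h₂ 0
  haveI : Module.Finite k (HMod T.X₃ ⊤ 0) := fin h₃ 0
  haveI : Module.Finite k (HMod T.X₁ ⊤ 1) := fin h₁ 1
  haveI : Module.Finite k (HMod T.X₂ ⊤ 1) := fin h₂ 1
  have hz : Module.finrank k (HMod T.X₁ ⊤ 0) = 0 := (hd S.X₁ 0).symm.trans h0
  have hgi : Function.Injective g := by
    rw [← LinearMap.ker_eq_bot, eq_bot_iff]
    intro x hx
    obtain ⟨y, rfl⟩ := (eMap_g_eq_zero_iff (S := T.sc) T.shortExact ⊤ 0 x).1 hx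
    haveI : Module.Free k (HMod T.X₁ ⊤ 0) := Module.Free.of_divisionRing k _
    haveI : Subsingleton (HMod T.X₁ ⊤ 0) := (Module.finrank_zero_iff (R := k)).1 hz
    rw [Submodule.mem_bot, show y = 0 from Subsingleton.elim (α := HMod T.X₁ ⊤ 0) _ _]
    exact map_zero (mapHMod T.f ⊤ 0)
  haveI : Module.Finite k (HMod (modRSh φ S.X₂) ⊤ 0) := fin h₂ 0
  haveI : Module.Finite k (HMod (modRSh φ S.X₃) ⊤ 0) := fin h₃ 0
  have hgs : Function.Surjective g :=
    (LinearMap.injective_iff_surjective_of_finrank_eq_finrank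
      ((hd S.X₂ 0).symm.trans (he.trans (hd S.X₃ 0)))).1 hgi
  have hfi : Function.Injective f := by
    rw [← LinearMap.ker_eq_bot, eq_bot_iff]
    intro x hx
    obtain ⟨y, rfl⟩ := (eMap_f_eq_zero_iff (S := T.sc) T.shortExact ⊤ 0 x).1 hx
    obtain ⟨z, rfl⟩ := hgs y
    exact Submodule.mem_bot k |>.2 ((eDelta_eq_zero_iff (S := T.sc) T.shortExact ⊤ 0 _).2 ⟨z, rfl⟩)
  rw [hd, hd]
  haveI : Module.Finite k (HMod (modRSh φ S.X₂) ⊤ 1) := fin h₂ 1
  exact LinearMap.finrank_le_finrank_of_injective hfi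

end Groth.Agent.SurfRR
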