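import Groth.Agent.SurfRR.Effective

/-!
# Quadratic growth of sections
-/

set_option autoImplicit false
set_option linter.style.haveILetI false

universe u

open CategoryTheory CategoryTheory.Limits AlgebraicGeometry

namespace Groth.Agent.SurfRR

open Groth.Agent.HilbPoly Groth.Agent.IntTh

variable (k : Type u) [Field k] {X : Scheme.{u}} [X.Over (Spec (CommRingCat.of k))]
  [IsProper (X ↘ Spec (CommRingCat.of k))]

/-- Positive square and degree give quadratic growth of sections. -/
theorem eventually_growth [IsIntegral X] (hdim : topologicalKrullDim X ≤ 2) {W : X.Modules}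
    (hW : PicF.IsInvertible W) (hdual : HasDuality k W) {L H : X.Modules} (hL : PicF.IsInvertible L)
    (hH : CohB1.IsAmple H) (hLL : 0 < inum k [L, L] (Coh.structureModule X))
    (hLH : 0 < inum k [L, H] (Coh.structureModule X)) :
    ∃ N : ℕ, ∀ n : ℕ, N ≤ n →
      (n : ℤ) ^ 2 < 4 * (Module.finrank k (Coh.HH X (CohB1.tensorPow L n) 0) : ℤ) := by
  haveI : IsLocallyNoetherian X := LocallyOfFiniteType.isLocallyNoetherian (X ↘ Spec (CommRingCat.of k))
  let a := (inum k [W, H] (Coh.structureModule X)).natAbs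
  let b := (inum k [L, W] (Coh.structureModule X)).natAbs
  let c := (Curv2.euler k X (Coh.structureModule X)).natAbs
  refine ⟨a + 2 * b + 4 * c + 1, fun n hn => ?_⟩
  have hP := InvPow.isInvertible_tensorPow hL n
  have hv := subsingleton_h2 k hdim hW hdual hP hH (by
    rw [inum_pow k hdim hL hH.1]
    have h1 : inum k [W, H] (Coh.structureModule X) ≤ (a : ℤ) := Int.le_natAbs
    have h2 : (a : ℤ) < n := by omega
    nlinarith)
  have hrr := riemann_roch k hdim hW hdual hP
  rw [intNum_pair k hdim hP hP, intNum_pair k hdim hP hW, inum_pow k hdim hL hP, inum_pow k hdim hL hW,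
    inum_swap k hL hP, inum_pow k hdim hL hL] at hrr
  have hs := euler_eq k hdim (InvPow.isCoh_of_isInvertible hP)
  rw [Module.finrank_zero_of_subsingleton (M := Coh.HH X (CohB1.tensorPow L n) 2)] at hs
  have h1 : inum k [L, W] (Coh.structureModule X) ≤ (b : ℤ) := Int.le_natAbs
  have h2 : -(c : ℤ) ≤ Curv2.euler k X (Coh.structureModule X) := by omega
  have h3 : 2 * (b : ℤ) + 4 * c + 1 ≤ n := by omega
  have hn0 : (0 : ℤ) ≤ n := Int.natCast_nonneg n
  have h4 : (n : ℤ) * inum k [L, W] (Coh.structureModule X) ≤ (n : ℤ) * b := mul_le_mul_of_nonneg_left h1 hn0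
  have h5 : (n : ℤ) * ((n : ℤ) * 1) ≤ (n : ℤ) * ((n : ℤ) * inum k [L, L] (Coh.structureModule X)) :=
    mul_le_mul_of_nonneg_left (mul_le_mul_of_nonneg_left hLL hn0) hn0
  push_cast at hs
  nlinarith

end Groth.Agent.SurfRR
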