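import Groth.Agent.SurfRR.Walls
import Groth.Agent.SurfRR.Vanishing
import Groth.Agent.SurfRR.CurveCartier
import Groth.Agent.HilbPoly.Cartier

/-!
# Configurations of curves, through intersection numbers of ideals
-/

set_option autoImplicit false
set_option linter.style.haveILetI false

universe u

open CategoryTheory CategoryTheory.Limits AlgebraicGeometry TopologicalSpace

namespace Groth.Agent.SurfRR

open Groth.Agent.HilbPoly Groth.Agent.IntTh Groth.Agent.InvPow

variable (k : Type u) [Field k] [IsAlgClosed k] {X : Scheme.{u}} [X.Over (Spec (CommRingCat.of k))]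
  [IsProper (X ↘ (Spec (CommRingCat.of k)))] [Smooth (X ↘ (Spec (CommRingCat.of k)))] [IsIntegral X]
  (hdim : topologicalKrullDim X = 2)

include k hdim in
omit [IsAlgClosed k] in
/-- Curves on a smooth surface are Cartier. -/
theorem isInvertible_idealMod_curve {I : X.IdealSheafData} (h1 : IsIntegral I.subscheme)
    (h2 : topologicalKrullDim (I.support : Set X) = 1) : PicF.IsInvertible (ClSub.idealMod I) := by
  haveI := h1
  haveI : IsLocallyNoetherian X := LocallyOfFiniteType.isLocallyNoetherian (X ↘ Spec (CommRingCat.of k))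
  have h := isInvertible_idealMod_of_regular hdim
    (fun y => CohDual.SmoothEquidim.isRegularLocalRing_stalk (X ↘ Spec (CommRingCat.of k)) y) I.subschemeι
    (by rw [CurveDeg.dim_source I.subschemeι, Scheme.IdealSheafData.range_subschemeι, h2])
  rwa [Scheme.IdealSheafData.ker_subschemeι] at h

include hdim in
omit [IsAlgClosed k] in
/-- `(I·L') = deg L|_C` for an inverse `L'` of `L`. -/
theorem intNum_curve_inverse {I : X.IdealSheafData} (hI : PicF.IsInvertible (ClSub.idealMod I)) {L L' : X.Modules}
    (hL : PicF.IsInvertible L) (e : CohB1.tensorMod L L' ≅ Coh.structureModule X) :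
    FGA.intNum k X 2 ![ClSub.idealMod I, L'] (Coh.structureModule X) = inumOn k I.subschemeι [L] := by
  have hI' : PicF.IsInvertible (ClSub.idealMod I.subschemeι.ker) := by
    rwa [Scheme.IdealSheafData.ker_subschemeι]
  have h := intNum_ideal_inverse k hdim.le I.subschemeι hI' hL e
  rw [Scheme.IdealSheafData.ker_subschemeι] at h
  rw [h, inumOn_single, Curv2.deg]
  push_cast
  ring

include hdim in
omit [IsAlgClosed k] in
/-- A curve not inside an effective Cartier divisor meets it nonnegatively. -/
theorem intNum_nonneg_of_not_subset {I J : X.IdealSheafData} (hI : PicF.IsInvertible (ClSub.idealMod I))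
    (hI1 : IsIntegral I.subscheme) (hI2 : topologicalKrullDim (I.support : Set X) = 1)
    (hJ : PicF.IsInvertible (ClSub.idealMod J)) (hns : ¬ (I.support : Set X) ⊆ (J.support : Set X)) :
    0 ≤ FGA.intNum k X 2 ![ClSub.idealMod I, ClSub.idealMod J] (Coh.structureModule X) := by
  haveI := hI1
  obtain ⟨M, ⟨e⟩⟩ := NegVanish.exists_inverse hJ
  have hM : PicF.IsInvertible M := NegVanish.isInvertible_of_inverse hJ ⟨e⟩
  obtain ⟨c⟩ := ProjTwist.nonempty_tensorMod_comm M (ClSub.idealMod J)
  rw [intNum_curve_inverse k hdim hI hM (c ≪≫ e)]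
  obtain ⟨σ, hσ⟩ := ConnDiv.exists_section_compl_support hJ hM ⟨c ≪≫ e⟩
  obtain ⟨σ', hσ'⟩ := exists_gen_pow_one hM σ
  refine inumOn_nonneg_of_section hM one_pos σ' I.subschemeι
    (by rw [CurveDeg.dim_source I.subschemeι, Scheme.IdealSheafData.range_subschemeι, hI2]) ?_
  obtain ⟨y, hy, hy'⟩ := Set.not_subset.1 hns
  refine ⟨y, ?_, ?_⟩
  · rw [Scheme.IdealSheafData.range_subschemeι]; exact hy
  · rw [hσ']
    exact not_not.1 fun h => hy' (hσ.le h)

include k hdim in
omit [IsAlgClosed k] [Smooth (X ↘ (Spec (CommRingCat.of k)))] [IsIntegral X] in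
/-- An integral curve is not inside another one. -/
theorem not_subset_curve {I J : X.IdealSheafData} (hI1 : IsIntegral I.subscheme)
    (hI2 : topologicalKrullDim (I.support : Set X) = 1) (hJ1 : IsIntegral J.subscheme)
    (hJ2 : topologicalKrullDim (J.support : Set X) = 1) (hne : I ≠ J) :
    ¬ (I.support : Set X) ⊆ (J.support : Set X) := fun hsub => by
  haveI := hJ1
  haveI := hI1
  apply hne
  have hirr : IsIrreducible (J.support : Set X) := by
    rw [← J.range_subschemeι, ← Set.image_univ]
    exact (IrreducibleSpace.isIrreducible_univ J.subscheme).image _ J.subschemeι.continuous.continuousOn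
  have heq : (I.support : Set X) = (J.support : Set X) := by
    by_contra hcon
    have hIne : (I.support : Set X).Nonempty := by
      rw [← I.range_subschemeι]; exact Set.range_nonempty _
    have h1 := dim_add_one_le I.support.isClosed hirr J.support.isClosed (ssubset_of_subset_of_ne hsub hcon) hIne
    rw [hI2, hJ2] at h1
    exact absurd h1 (by decide)
  rw [← Scheme.IdealSheafData.ker_subschemeι I, ← Scheme.IdealSheafData.ker_subschemeι J,
    ker_eq_vanishingIdeal I.subschemeι (C := J.support) ((Scheme.IdealSheafData.range_subschemeι I).trans heq),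
    ker_eq_vanishingIdeal J.subschemeι (C := J.support) (Scheme.IdealSheafData.range_subschemeι J)]

include hdim in
omit [IsAlgClosed k] in
/-- Curves meet the inverse of an ample module positively. -/
theorem intNum_ample_inverse_pos {I : X.IdealSheafData} (hI1 : IsIntegral I.subscheme)
    (hI2 : topologicalKrullDim (I.support : Set X) = 1) {H H' : X.Modules} (hH : CohB1.IsAmple H)
    (e : CohB1.tensorMod H H' ≅ Coh.structureModule X) :
    0 < FGA.intNum k X 2 ![ClSub.idealMod I, H'] (Coh.structureModule X) := by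
  haveI := hI1
  rw [intNum_curve_inverse k hdim (isInvertible_idealMod_curve k hdim hI1 hI2) hH.1 e]
  exact inumOn_pos_of_isAmple k hH I.subschemeι (d := 1)
    (by rw [CurveDeg.dim_source I.subschemeι, Scheme.IdealSheafData.range_subschemeι, hI2, Nat.cast_one])

include hdim in
omit [IsAlgClosed k] [Smooth (X ↘ (Spec (CommRingCat.of k)))] [IsIntegral X] in
theorem intNum_symm {A B : X.Modules} (hA : PicF.IsInvertible A) (hB : PicF.IsInvertible B) :
    FGA.intNum k X 2 ![A, B] (Coh.structureModule X) = FGA.intNum k X 2 ![B, A] (Coh.structureModule X) := by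
  rw [intNum_pair k hdim.le hA hB, intNum_pair k hdim.le hB hA, inum_swap k hA hB]

include hdim in
omit [IsAlgClosed k] [Smooth (X ↘ (Spec (CommRingCat.of k)))] [IsIntegral X] in
/-- `χ(O_C ⊗ L) - χ(O_C) = -(I_C·L)`. -/
theorem euler_quotMod_sub {I : X.IdealSheafData} (hI : PicF.IsInvertible (ClSub.idealMod I)) {L : X.Modules}
    (hL : PicF.IsInvertible L) :
    Curv2.euler k X (CohB1.tensorMod (ClSub.quotMod I) L) - Curv2.euler k X (ClSub.quotMod I) =
      -FGA.intNum k X 2 ![ClSub.idealMod I, L] (Coh.structureModule X) := by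
  haveI : IsLocallyNoetherian X := LocallyOfFiniteType.isLocallyNoetherian (X ↘ Spec (CommRingCat.of k))
  have hl : Inv [L] := fun A hA => by rw [List.mem_singleton.1 hA]; exact hL
  let S : ShortComplex X.Modules :=
    ShortComplex.mk (ClSub.idealModι I) (ClSub.toSubscheme I) (kernel.condition _)
  haveI : Epi (ClSub.toSubscheme I) := epi_toSubscheme _
  haveI : Mono (ClSub.idealModι I) := inferInstanceAs (Mono (kernel.ι _))
  have hS : S.ShortExact :=
    { exact := ShortComplex.exact_of_f_is_kernel _ (kernelIsKernel _)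
      mono_f := inferInstanceAs (Mono (kernel.ι _))
      epi_g := inferInstanceAs (Epi (ClSub.toSubscheme I)) }
  have h1 : Coh.IsCoh (ClSub.idealMod I) := InvPow.isCoh_of_isInvertible hI
  have hO : Coh.IsCoh (Coh.structureModule X) := InvPow.isCoh_of_isInvertible (HilbPoly.isInvertible_structureModule X)
  have h3 : Coh.IsCoh (ClSub.quotMod I) := isCoh_quotMod I
  have h := inum_additive k hl hS h1 hO h3
  simp only [S] at h
  obtain ⟨c⟩ := ProjTwist.nonempty_tensorMod_comm (Coh.structureModule X) (ClSub.idealMod I)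
  have h2 : inum k [ClSub.idealMod I, L] (Coh.structureModule X) =
      inum k [L] (ClSub.idealMod I) - inum k [L] (Coh.structureModule X) := by
    show inum k [L] (CohB1.tensorMod (Coh.structureModule X) (ClSub.idealMod I)) - _ = _
    rw [inum_congr k [L] (c ≪≫ SecTwist.unitorR _)]
  rw [intNum_pair k hdim.le hI hL, h2]
  simp only [inum] at h ⊢
  linarith

/-- Positive and negative parts. -/
theorem exists_parts {r : ℕ} (a : Fin r → ℤ) :
    ∃ p q : Fin r → ℤ, (∀ i, 0 ≤ p i) ∧ (∀ i, 0 ≤ q i) ∧ (∀ i, p i * q i = 0) ∧ ∀ i, a i = p i - q i :=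
  ⟨fun i => max (a i) 0, fun i => max (-a i) 0, fun i => le_max_right _ _, fun i => le_max_right _ _,
    fun i => by rcases le_total (a i) 0 with h | h <;> simp [h],
    fun i => by rcases le_total (a i) 0 with h | h <;> simp [h]⟩

/-- Disjointly supported nonnegative combinations pair nonnegatively. -/
theorem sum_disjoint_nonneg {r : ℕ} {G : Fin r → Fin r → ℤ} (hG : ∀ i j, i ≠ j → 0 ≤ G i j)
    {p q : Fin r → ℤ} (hp : ∀ i, 0 ≤ p i) (hq : ∀ i, 0 ≤ q i) (hpq : ∀ i, p i * q i = 0) :
    0 ≤ ∑ i, ∑ j, p i * q j * G i j := by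
  refine Finset.sum_nonneg fun i _ => Finset.sum_nonneg fun j _ => ?_
  by_cases hij : i = j
  · subst hij; rw [hpq i, zero_mul]
  · exact mul_nonneg (mul_nonneg (hp i) (hq j)) (hG i j hij)

variable {r : ℕ} (C : Fin r → X.IdealSheafData) (hC : Function.Injective C)
  (hCi : ∀ i, IsIntegral (C i).subscheme) (hCd : ∀ i, topologicalKrullDim ((C i).support : Set X) = 1)

include hdim hC hCi hCd in
omit [IsAlgClosed k] in
theorem intNum_offdiag_nonneg {i j : Fin r} (h : i ≠ j) :
    0 ≤ FGA.intNum k X 2 ![ClSub.idealMod (C i), ClSub.idealMod (C j)] (Coh.structureModule X) :=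
  intNum_nonneg_of_not_subset k hdim (isInvertible_idealMod_curve k hdim (hCi i) (hCd i)) (hCi i) (hCd i)
    (isInvertible_idealMod_curve k hdim (hCi j) (hCd j))
    (not_subset_curve k hdim (hCi i) (hCd i) (hCi j) (hCd j) (hC.ne h))

include hdim hCi hCd in
omit [IsAlgClosed k] in
theorem eq_zero_of_ample {H H' : X.Modules} (hH : CohB1.IsAmple H) (e : CohB1.tensorMod H H' ≅ Coh.structureModule X)
    {p : Fin r → ℤ} (hp : ∀ i, 0 ≤ p i)
    (h : ∑ i, p i * FGA.intNum k X 2 ![ClSub.idealMod (C i), H'] (Coh.structureModule X) = 0) : p = 0 := by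
  have hpos := fun i => intNum_ample_inverse_pos k hdim (hCi i) (hCd i) hH e
  funext i
  have := (Finset.sum_eq_zero_iff_of_nonneg (fun i _ => mul_nonneg (hp i) (hpos i).le)).1 h i (Finset.mem_univ i)
  exact (mul_eq_zero.1 this).resolve_right (hpos i).ne'

end Groth.Agent.SurfRR

namespace Groth.Agent.SurfRR

open Groth.Agent.IntTh

variable (k : Type u) [Field k] {X : Scheme.{u}} [X.Over (Spec (CommRingCat.of k))]
  [IsProper (X ↘ (Spec (CommRingCat.of k)))] (hdim : topologicalKrullDim X = 2)

include hdim in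
/-- A product of powers, with its pairings. -/
theorem exists_prod {A : X.Modules} (hA : PicF.IsInvertible A) (m : ℕ) : ∀ {r : ℕ} (N : Fin r → X.Modules)
    (_ : ∀ i, PicF.IsInvertible (N i)) (a : Fin r → ℕ), ∃ L : X.Modules, PicF.IsInvertible L ∧
      ∀ M : X.Modules, PicF.IsInvertible M → inum k [L, M] (Coh.structureModule X) =
        (m : ℤ) * inum k [A, M] (Coh.structureModule X) +
          ∑ i, (a i : ℤ) * inum k [N i, M] (Coh.structureModule X)
  | 0, _, _, _ => ⟨CohB1.tensorPow A m, InvPow.isInvertible_tensorPow hA m, fun M hM => by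
      rw [inum_pow k hdim.le hA hM]; simp⟩
  | r + 1, N, hN, a => by
    obtain ⟨L, hL, h⟩ := exists_prod hA m (fun i => N i.castSucc) (fun i => hN _) fun i => a i.castSucc
    have hp := InvPow.isInvertible_tensorPow (hN (Fin.last r)) (a (Fin.last r))
    refine ⟨CohB1.tensorMod L (CohB1.tensorPow (N (Fin.last r)) (a (Fin.last r))),
      InvPow.isInvertible_tensorMod hL hp, fun M hM => ?_⟩
    rw [inum_tensor k hdim.le hL hp hM, inum_pow k hdim.le (hN _) hM, h M hM, Fin.sum_univ_castSucc]
    ring

end Groth.Agent.SurfRR
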