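import Groth.Agent.HilbPoly.PushForm
import Groth.Agent.SurfRR.Curve
import Groth.Agent.SurfRR.LES
import Groth.Agent.RigidProd.Sections
import Groth.Agent.ZarConn.Conn

/-!
# The first cohomology of the ideal of a curve and connectedness
-/

set_option autoImplicit false
set_option linter.style.haveILetI false
set_option backward.isDefEq.respectTransparency false

universe u

open CategoryTheory CategoryTheory.Limits AlgebraicGeometry Opposite TopologicalSpace
open scoped Groth.Agent.CohVanish

namespace Groth.Agent.SurfRR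

open InvBasic ProjUniv Groth.Agent.InvPow Groth.Agent.CohFinite Groth.Agent.CechCmp Groth.Agent.CohVanish
  Groth.Agent.HilbPoly

section Push

variable {X W : Scheme.{u}} (j : W ⟶ X) [IsClosedImmersion j] (k : Type u) [Field k] [X.Over (Spec (CommRingCat.of k))]
  [IsProper (X ↘ Spec (CommRingCat.of k))]

/-- The cohomology dimensions of a direct image under a closed immersion. -/
theorem finrank_HH_push (N : W.Modules) [N.IsQuasicoherent] (p : ℕ) :
    letI : W.Over (Spec (CommRingCat.of k)) := ⟨j ≫ (X ↘ Spec (CommRingCat.of k))⟩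
    Module.finrank k (Coh.HH X ((Scheme.Modules.pushforward j).obj N) p) = Module.finrank k (Coh.HH W N p) := by
  classical
  letI : W.Over (Spec (CommRingCat.of k)) := ⟨j ≫ (X ↘ Spec (CommRingCat.of k))⟩
  have : CompactSpace X := QuasiCompact.compactSpace_of_compactSpace (X ↘ Spec (CommRingCat.of k))
  have hS : X.IsSeparated := ⟨by
    rw [← terminal.comp_from (X ↘ Spec (CommRingCat.of k))]
    infer_instance⟩
  have : ((Scheme.Modules.pushforward j).obj N).IsQuasicoherent := QCohLib.isQuasicoherent_pushforward j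
  rcases isEmpty_or_nonempty X with hX | hX
  · have : IsEmpty W := Function.isEmpty j
    have h1 : IsZero ((Scheme.Modules.pushforward j).obj N) :=
      QCohLib.isZero_of_subsingleton_stalk fun x => isEmptyElim x
    have h2 : IsZero N := QCohLib.isZero_of_subsingleton_stalk fun x => isEmptyElim x
    have := subsingleton_HH_of_isZero h1 p
    have := subsingleton_HH_of_isZero h2 p
    rw [Module.finrank_zero_of_subsingleton, Module.finrank_zero_of_subsingleton]
  obtain ⟨C, hC⟩ := isCompact_univ.elim_finite_subcover (fun V : X.affineOpens => (V.1 : Set X))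
    (fun V => V.1.2) fun x _ => by
      obtain ⟨V, hV, hxV, -⟩ := exists_isAffineOpen_mem_and_subset (X := X) (x := x) (U := ⊤) trivial
      exact Set.mem_iUnion.mpr ⟨⟨V, hV⟩, hxV⟩
  have : Nonempty C := by
    obtain ⟨x⟩ := hX
    obtain ⟨V, hV, -⟩ := Set.mem_iUnion₂.mp (hC (Set.mem_univ x))
    exact ⟨⟨V, hV⟩⟩
  let U : C → X.Opens := fun V => V.1.1
  have hU : ∀ s : Finset C, s.Nonempty → IsAffineOpen (RSh.meetOpen U s) := fun s hs => by
    induction hs using Finset.Nonempty.cons_induction with
    | singleton a =>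
      rw [RSh.meetOpen, Finset.iInf_singleton]
      exact a.1.2
    | cons a s ha hs ih =>
      rw [RSh.meetOpen, Finset.cons_eq_insert, Finset.iInf_insert]
      exact a.1.2.inf ih
  have hcov : ⨆ V, U V = ⊤ := top_unique fun x _ => by
    obtain ⟨V, hV, hxV⟩ := Set.mem_iUnion₂.mp (hC (Set.mem_univ x))
    exact Opens.mem_iSup.mpr ⟨⟨V, hV⟩, hxV⟩
  obtain ⟨e⟩ := nonempty_push_equiv j (Coh.toGlobal (X ↘ Spec (CommRingCat.of k))) N U hcov hU
    (fun s hs q => subsingleton_EU_of_isAffineOpen N ((hU s hs).preimage j) q) p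
  have hφ : pullAct j (Coh.toGlobal (X ↘ Spec (CommRingCat.of k))) =
      Coh.toGlobal (W ↘ Spec (CommRingCat.of k)) := rfl
  rw [hφ] at e
  exact ((hhEquiv _ p).trans (e.trans (hhEquiv N p).symm)).finrank_eq

end Push

variable (k : Type u) [Field k] {X : Scheme.{u}} [X.Over (Spec (CommRingCat.of k))]
  [IsProper (X ↘ Spec (CommRingCat.of k))]

/-- The constants, as a map into `H⁰`. -/
theorem exists_constants : ∃ σ : k →ₗ[k] Coh.HH X (Coh.structureModule X) 0,
    ∀ c : k, Groth.Agent.S1536.h0Equiv (Coh.structureModule X) (σ c) =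
      Coh.toGlobal (X ↘ Spec (CommRingCat.of k)) c := by
  let e := Groth.Agent.S1536.h0Equiv (Coh.structureModule X)
  refine ⟨LinearMap.toSpanSingleton k _ (e.symm (1 : Γ(X, ⊤))), fun c => ?_⟩
  show e (Coh.toGlobal (X ↘ Spec (CommRingCat.of k)) c • e.symm (1 : Γ(X, ⊤))) = _
  rw [Groth.Agent.S1536.h0Equiv_smul]
  erw [e.apply_symm_apply]
  show (X.presheaf.map (homOfLE (le_refl (⊤ : X.Opens))).op).hom (Coh.toGlobal (X ↘ Spec (CommRingCat.of k)) c) *
    (1 : Γ(X, ⊤)) = (Coh.toGlobal (X ↘ Spec (CommRingCat.of k)) c : Γ(X, ⊤))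
  rw [_root_.mul_one, Subsingleton.elim (homOfLE (le_refl (⊤ : X.Opens))) (𝟙 _), op_id,
    CategoryTheory.Functor.map_id]
  rfl

/-- `h⁰ ≤ 1` forces connectedness. -/
theorem preconnectedSpace_of_finrank_h0_le [Nonempty X]
    (h : Module.finrank k (Coh.HH X (Coh.structureModule X) 0) ≤ 1) : PreconnectedSpace X := by
  obtain ⟨σ, hσ⟩ := exists_constants k (X := X)
  let f := X ↘ Spec (CommRingCat.of k)
  haveI : Nonempty (⊤ : X.Opens) := ⟨⟨Classical.arbitrary X, trivial⟩⟩
  haveI : Nontrivial (Coh.Γtop X) := show Nontrivial Γ(X, ⊤) from inferInstance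
  have hinj : Function.Injective (Coh.toGlobal f) := RingHom.injective _
  have hσi : Function.Injective σ := fun a b hab => hinj (by rw [← hσ, ← hσ, hab])
  haveI : Module.Finite k (Coh.HH X (Coh.structureModule X) 0) := by
    haveI : IsLocallyNoetherian X := LocallyOfFiniteType.isLocallyNoetherian f
    exact finite_HH (k := k) (InvPow.isCoh_of_isInvertible (HilbPoly.isInvertible_structureModule X)) 0
  have hfr : Module.finrank k k = Module.finrank k (Coh.HH X (Coh.structureModule X) 0) :=
    le_antisymm (LinearMap.finrank_le_finrank_of_injective hσi) (by rw [Module.finrank_self]; exact h)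
  have hσs : Function.Surjective σ := (LinearMap.injective_iff_surjective_of_finrank_eq_finrank hfr).1 hσi
  refine ZarConn.preconnectedSpace_of_idempotent X fun e he => ?_
  obtain ⟨c, hc⟩ := hσs ((Groth.Agent.S1536.h0Equiv (Coh.structureModule X)).symm e)
  have hce : (Coh.toGlobal f c : Γ(X, ⊤)) = e := by
    rw [← hσ, hc]; exact (Groth.Agent.S1536.h0Equiv (Coh.structureModule X)).apply_symm_apply e
  have : c * c = c := hinj (by rw [map_mul]; exact hce.symm ▸ he)
  rcases eq_or_ne c 0 with h0 | h0
  · exact Or.inl (by rw [← hce, h0, map_zero])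
  · exact Or.inr (by rw [← hce, show c = 1 from mul_right_cancel₀ h0 (this.trans (one_mul c).symm), map_one])

/-- A connected reduced proper scheme over an algebraically closed field has `h⁰ = 1`. -/
theorem finrank_h0_of_connected [IsAlgClosed k] [IsReduced X] [ConnectedSpace X] :
    Module.finrank k (Coh.HH X (Coh.structureModule X) 0) = 1 := by
  obtain ⟨σ, hσ⟩ := exists_constants k (X := X)
  let f := X ↘ Spec (CommRingCat.of k)
  haveI : IsLocallyNoetherian X := LocallyOfFiniteType.isLocallyNoetherian f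
  haveI : Nonempty (⊤ : X.Opens) := ⟨⟨Classical.arbitrary X, trivial⟩⟩
  haveI : Nontrivial (Coh.Γtop X) := show Nontrivial Γ(X, ⊤) from inferInstance
  let φ : k →+* Γ(X, ⊤) := Coh.toGlobal f
  letI := φ.toAlgebra
  haveI : Module.Finite k (Coh.HH X (Coh.structureModule X) 0) :=
    finite_HH (k := k) (InvPow.isCoh_of_isInvertible (HilbPoly.isInvertible_structureModule X)) 0
  let E : Coh.HH X (Coh.structureModule X) 0 →ₗ[k] Γ(X, ⊤) :=
    { toFun := fun x => Groth.Agent.S1536.h0Equiv (Coh.structureModule X) x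
      map_add' := fun a b => map_add _ a b
      map_smul' := fun c x => by
        show Groth.Agent.S1536.h0Equiv _ (Coh.toGlobal f c • x) = φ c * _
        rw [Groth.Agent.S1536.h0Equiv_smul]
        show (X.presheaf.map (homOfLE (le_refl (⊤ : X.Opens))).op).hom (Coh.toGlobal f c) * _ = φ c * _
        rw [Subsingleton.elim (homOfLE (le_refl (⊤ : X.Opens))) (𝟙 _), op_id, CategoryTheory.Functor.map_id]
        rfl }
  haveI : Module.Finite k Γ(X, ⊤) := Module.Finite.of_surjective E
    (Groth.Agent.S1536.h0Equiv (Coh.structureModule X)).surjective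
  haveI : IsArtinianRing Γ(X, ⊤) := IsArtinianRing.of_finite k Γ(X, ⊤)
  have hfield : IsField Γ(X, ⊤) := by
    refine ⟨exists_pair_ne _, mul_comm, fun {a} ha => ?_⟩
    obtain ⟨n, y, hy⟩ := IsArtinian.exists_pow_succ_smul_dvd a (1 : Γ(X, ⊤))
    simp only [smul_eq_mul, mul_one, Nat.succ_eq_add_one] at hy
    have h0 : (a * (1 - a * y)) ^ (n + 1) = 0 := by
      have : a ^ n * (1 - a * y) = 0 := by rw [mul_sub, mul_one, ← mul_assoc, ← pow_succ, hy, sub_self]
      calc (a * (1 - a * y)) ^ (n + 1) = a ^ n * (1 - a * y) * (a * (1 - a * y) ^ n) := by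
            rw [mul_pow, pow_succ, pow_succ]; ring
        _ = 0 := by rw [this, zero_mul]
    have h1 : a * (1 - a * y) = 0 := eq_zero_of_pow_eq_zero h0
    rcases RigidProd.isIdempotentElem_eq_zero_or_one (e := a * y)
      (show a * y * (a * y) = a * y by linear_combination (-y) * h1) with h2 | h2
    · rw [h2, sub_zero, mul_one] at h1
      exact absurd h1 ha
    · exact ⟨y, h2⟩
  have hbij : Function.Bijective φ := by
    letI := hfield.toField
    exact IsAlgClosed.algebraMap_bijective_of_isIntegral (k := k) (K := Γ(X, ⊤))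
  have : Function.Bijective σ := (Function.Bijective.of_comp_iff'
    (Groth.Agent.S1536.h0Equiv (Coh.structureModule X)).bijective σ).mp
      (by rw [show (Groth.Agent.S1536.h0Equiv (Coh.structureModule X) ∘ σ) = φ from funext hσ]; exact hbij)
  rw [← (LinearEquiv.ofBijective σ this).finrank_eq, Module.finrank_self]

/-- If `H¹(X₁) = 0` then `h⁰(X₃) ≤ h⁰(X₂)`. -/
theorem finrank_h0_le {S : ShortComplex X.Modules} (hS : S.ShortExact)
    (h₂ : Coh.IsCoh S.X₂) (h1 : Subsingleton (Coh.HH X S.X₁ 1)) :
    Module.finrank k (Coh.HH X S.X₃ 0) ≤ Module.finrank k (Coh.HH X S.X₂ 0) := by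
  let φ := Coh.toGlobal (X ↘ Spec (CommRingCat.of k))
  let T := modSES φ S hS
  let g := mapHMod T.g ⊤ 0
  haveI : Module.Finite k (HMod (modRSh φ S.X₂) ⊤ 0) := allFin_of_isProper (X ↘ Spec (CommRingCat.of k)) _ h₂ 0
  haveI : Subsingleton (HMod T.X₁ ⊤ 1) :=
    (hhEquiv (A := k) S.X₁ 1).toEquiv.symm.injective.subsingleton
  have hgs : Function.Surjective g := fun z =>
    (eDelta_eq_zero_iff (S := T.sc) T.shortExact ⊤ 0 z).1 (Subsingleton.elim (α := HMod T.X₁ ⊤ 1) _ _)
  rw [(hhEquiv (A := k) S.X₃ 0).finrank_eq,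
    (hhEquiv (A := k) S.X₂ 0).finrank_eq]
  exact LinearMap.finrank_le_finrank_of_surjective hgs

/-- The sections of `O_D` are those of the subscheme. -/
theorem finrank_h0_quotMod (D : X.IdealSheafData) :
    Module.finrank k (Coh.HH X (ClSub.quotMod D) 0) =
      @Module.finrank k (Coh.HH D.subscheme (Coh.structureModule D.subscheme) 0) _ _
        (letI : D.subscheme.Over (Spec (CommRingCat.of k)) := ⟨D.subschemeι ≫ (X ↘ Spec (CommRingCat.of k))⟩
         inferInstance) := by
  haveI := InvBasic.isQuasicoherent_structureModule D.subscheme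
  exact finrank_HH_push D.subschemeι k (Coh.structureModule D.subscheme) 0

/-- `0 → I → O → O_D → 0`. -/
theorem exists_ideal_ses [IsLocallyNoetherian X] (D : X.IdealSheafData) :
    ∃ S : ShortComplex X.Modules, S.ShortExact ∧ S.X₁ = ClSub.idealMod D ∧ S.X₂ = Coh.structureModule X ∧
      S.X₃ = ClSub.quotMod D := by
  haveI : Epi (ClSub.toSubscheme D) := epi_toSubscheme _
  haveI : Mono (ClSub.idealModι D) := inferInstanceAs (Mono (kernel.ι _))
  exact ⟨ShortComplex.mk (ClSub.idealModι D) (ClSub.toSubscheme D) (kernel.condition _),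
    { exact := ShortComplex.exact_of_f_is_kernel _ (kernelIsKernel _)
      mono_f := inferInstanceAs (Mono (kernel.ι _))
      epi_g := inferInstanceAs (Epi (ClSub.toSubscheme D)) }, rfl, rfl, rfl⟩

end Groth.Agent.SurfRR
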