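import Groth.Agent.InvPow.VeryAmple
import Groth.Agent.InvPow.Projective
import Groth.Agent.ProjSpaceBC.Basic

/-!
# Proper schemes with an ample module are projective
-/

set_option autoImplicit false
set_option linter.style.haveILetI false

universe u

open CategoryTheory CategoryTheory.Limits AlgebraicGeometry

namespace Groth.Agent.SurfRR

variable (k : Type u) [Field k] {X : Scheme.{u}} [X.Over (Spec (CommRingCat.of k))]
  [IsProper (X ↘ Spec (CommRingCat.of k))]

/-- A proper scheme with an ample module embeds in projective space. -/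
theorem exists_embedding {H : X.Modules} (hH : CohB1.IsAmple H) :
    ∃ (n : ℕ) (ι : X ⟶ CohB1.ProjSpace n k), IsClosedImmersion ι ∧
      ι ≫ CohB1.ProjSpace.toSpec n k = (X ↘ (Spec (CommRingCat.of k))) := by
  obtain ⟨n₀, h⟩ := InvPow.exists_bound_immersion (X ↘ Spec (CommRingCat.of k)) hH
  obtain ⟨M, i, hi, hiq, -⟩ := h n₀ le_rfl
  haveI := hi
  let j : X ⟶ CohB1.ProjSpace M k := i ≫ inv (ProjSpaceBC.toOver M k)
  have hj : j ≫ CohB1.ProjSpace.toSpec M k = (X ↘ (Spec (CommRingCat.of k))) := by
    rw [← ProjSpaceBC.toOver_snd M k, Category.assoc, IsIso.inv_hom_id_assoc, hiq]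
  haveI : IsProper (CohB1.ProjSpace.toSpec M k) := InvPow.isProper_toSpec M k
  haveI : IsProper (j ≫ CohB1.ProjSpace.toSpec M k) := by rw [hj]; infer_instance
  haveI : IsProper j := IsProper.of_comp j (CohB1.ProjSpace.toSpec M k)
  haveI : IsImmersion j := inferInstanceAs (IsImmersion (i ≫ inv (ProjSpaceBC.toOver M k)))
  exact ⟨M, j, IsClosedImmersion.of_isPreimmersion j j.isClosedMap.isClosed_range, hj⟩

end Groth.Agent.SurfRR
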