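import Groth.Agent.SurfRR.Curve
import Groth.Agent.SurfRR.CurveCartier

/-!
# The adjunction formula for integral curves on smooth projective surfaces
-/

set_option autoImplicit false
set_option linter.style.haveILetI false

universe u

open CategoryTheory CategoryTheory.Limits AlgebraicGeometry

namespace Groth.Agent.SurfRR

open Groth.Agent.HilbPoly Groth.Agent.IntTh

variable (k : Type u) [Field k] {X : Scheme.{u}} [X.Over (Spec (CommRingCat.of k))]
  [IsProper (X ↘ Spec (CommRingCat.of k))]

/-- `2p_a - 2 = C·(C + K)` for an integral, possibly singular, curve. -/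
theorem adjunction_integral [IsAlgClosed k] [IsIntegral X] (hdim : topologicalKrullDim X = 2)
    (hreg : ∀ x : X, IsRegularLocalRing (X.presheaf.stalk x)) {W : X.Modules} (hW : PicF.IsInvertible W)
    (hdual : HasDuality k W) {C : Scheme.{u}} (i : C ⟶ X) [IsClosedImmersion i] [IsIntegral C]
    (hC : topologicalKrullDim C = 1) :
    2 * (@Module.finrank k (Coh.HH C (Coh.structureModule C) 1) _ _
        (letI : C.Over (Spec (CommRingCat.of k)) := ⟨i ≫ (X ↘ Spec (CommRingCat.of k))⟩; inferInstance) : ℤ) - 2 =
      inum k [ClSub.idealMod i.ker, ClSub.idealMod i.ker] (Coh.structureModule X) -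
        inum k [ClSub.idealMod i.ker, W] (Coh.structureModule X) := by
  letI : C.Over (Spec (CommRingCat.of k)) := ⟨i ≫ (X ↘ Spec (CommRingCat.of k))⟩
  haveI : IsLocallyNoetherian X := LocallyOfFiniteType.isLocallyNoetherian (X ↘ Spec (CommRingCat.of k))
  haveI : IsProper (C ↘ Spec (CommRingCat.of k)) := inferInstanceAs (IsProper (i ≫ (X ↘ Spec (CommRingCat.of k))))
  haveI : IsLocallyNoetherian C := LocallyOfFiniteType.isLocallyNoetherian i
  have hI := isInvertible_idealMod_of_regular hdim hreg i hC
  have hrr := riemann_roch k hdim.le hW hdual hI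
  rw [intNum_pair k hdim.le hI hI, intNum_pair k hdim.le hI hW] at hrr
  have hsub := euler_sub k i hI
  have hO : Coh.IsCoh (Coh.structureModule C) := InvPow.isCoh_of_isInvertible (HilbPoly.isInvertible_structureModule C)
  have hC' : topologicalKrullDim C ≤ ((1 : ℕ) : WithBot ℕ∞) := hC.le
  have h2 := euler_eq k (X := C) (hC'.trans (by norm_num)) hO
  have hv : Subsingleton (Coh.HH C (Coh.structureModule C) 2) :=
    HilbPoly.subsingleton_HH_of_dim k hO (d := 1) ((topologicalKrullDim_subspace_le C _).trans hC') (by norm_num)
  rw [Module.finrank_zero_of_subsingleton (M := Coh.HH C (Coh.structureModule C) 2), finrank_h0 k (X := C)] at h2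
  push_cast at h2
  linarith

end Groth.Agent.SurfRR
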