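import Groth.Agent.SurfRR.NumForm

/-!
# The positive cone
-/

set_option autoImplicit false
set_option linter.style.haveILetI false

universe u

open CategoryTheory CategoryTheory.Limits AlgebraicGeometry NumR

namespace Groth.Agent.SurfRR

variable {k : Type u} [Field k] [IsAlgClosed k] {X : Scheme.{u}} [X.Over (Spec (CommRingCat.of k))]
  [IsProper (X ↘ (Spec (CommRingCat.of k)))] [Smooth (X ↘ (Spec (CommRingCat.of k)))] [IsIntegral X]
  (hdim : topologicalKrullDim X = 2) [PicGrp.Law X]
  (B : N1R k X →ₗ[ℝ] N1R k X →ₗ[ℝ] ℝ) (hB : IsIntForm₂ k X B) (H : X.Modules) (hH : CohB1.IsAmple H)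

include hdim hB hH in
/-- A positive class pairs positively with the closed positive cone. -/
theorem form_pos_of_mem (x y : N1R k X) (hx : x ∈ posCone k X B H hH.1) (hy : 0 ≤ B y y)
    (hyH : 0 < B y (clR k X H hH.1)) : 0 < B x y := by
  obtain ⟨hxx, hxH⟩ := hx
  have hz : B (B y (clR k X H hH.1) • x - B x (clR k X H hH.1) • y) (clR k X H hH.1) = 0 := by
    simp only [map_sub, map_smul, LinearMap.sub_apply, LinearMap.smul_apply, smul_eq_mul]
    ring
  have h := form_hodge hdim B hB H hH (B y (clR k X H hH.1) • x - B x (clR k X H hH.1) • y)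
  rw [hz] at h
  simp only [map_sub, map_smul, LinearMap.sub_apply, LinearMap.smul_apply, smul_eq_mul] at h
  rw [form_symm hdim B hB y x] at h
  have hpos := form_ample_pos hdim B hB H hH
  have h1 : 0 < B y (clR k X H hH.1) ^ 2 * B x x := by positivity
  have h2 : 0 ≤ B x (clR k X H hH.1) ^ 2 * B y y := by positivity
  by_contra! hle
  have h3 : 0 ≤ B y (clR k X H hH.1) * B x (clR k X H hH.1) * (-B x y) :=
    mul_nonneg (mul_pos hyH hxH).le (neg_nonneg.2 hle)
  nlinarith [mul_pos hpos h1, mul_nonneg hpos.le h2, mul_nonneg hpos.le h3]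

include hdim hB hH in
/-- Only zero is orthogonal to a positive class with nonnegative square. -/
theorem eq_zero_of_perp_pos (x y : N1R k X) (hx : x ∈ posCone k X B H hH.1) (hy : 0 ≤ B y y) (hxy : B x y = 0) :
    y = 0 := by
  obtain ⟨hxx, hxH⟩ := hx
  rcases lt_trichotomy (B y (clR k X H hH.1)) 0 with h | h | h
  · have := form_pos_of_mem hdim B hB H hH x (-y) ⟨hxx, hxH⟩ (by simpa using hy) (by simpa using h)
    simp only [map_neg, hxy, neg_zero, lt_self_iff_false] at this
  · exact form_eq_zero_of_perp hdim B hB H hH y h hy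
  · exact absurd hxy (form_pos_of_mem hdim B hB H hH x y ⟨hxx, hxH⟩ hy h).ne'

include hdim hB in
omit [IsAlgClosed k] in
theorem isOpen_posCone [Module.Finite ℝ (N1R k X)] : IsOpen (posCone k X B H hH.1) := by
  have h1 : Continuous fun x : N1R k X => B x x :=
    (IsModuleTopology.continuous_bilinear_of_finite_left B).comp (continuous_id.prodMk continuous_id)
  have h2 : Continuous fun x : N1R k X => B x (clR k X H hH.1) :=
    IsModuleTopology.continuous_of_linearMap (B.flip (clR k X H hH.1))
  exact (isOpen_lt continuous_const h1).inter (isOpen_lt continuous_const h2)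

include hdim hB in
theorem convex_posCone : Convex ℝ (posCone k X B H hH.1) := by
  intro x hx y hy a b ha hb hab
  have hxy := form_pos_of_mem hdim B hB H hH x y hx hy.1.le hy.2
  refine ⟨?_, ?_⟩
  · simp only [map_add, map_smul, LinearMap.add_apply, LinearMap.smul_apply, smul_eq_mul]
    rw [form_symm hdim B hB y x]
    rcases ha.eq_or_lt with rfl | ha'
    · have : b = 1 := by linarith
      subst this
      simpa using hy.1
    · nlinarith [mul_pos (mul_pos ha' ha') hx.1, mul_nonneg (mul_nonneg ha hb) hxy.le, mul_nonneg (mul_nonneg hb hb) hy.1.le]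
  · simp only [map_add, map_smul, LinearMap.add_apply, LinearMap.smul_apply, smul_eq_mul]
    rcases ha.eq_or_lt with rfl | ha'
    · have : b = 1 := by linarith
      subst this
      simpa using hy.2
    · nlinarith [mul_pos ha' hx.2, mul_nonneg hb hy.2.le]

end Groth.Agent.SurfRR
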