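import Groth.Agent.SurfRR.PosCone

/-!
# The ample cone is open
-/

set_option autoImplicit false
set_option linter.style.haveILetI false

universe u

open CategoryTheory CategoryTheory.Limits AlgebraicGeometry NumR

namespace Groth.Agent.SurfRR

variable {k : Type u} [Field k] {X : Scheme.{u}} [X.Over (Spec (CommRingCat.of k))] [PicGrp.Law X]

theorem clR_tensor {L M : X.Modules} (hL : PicF.IsInvertible L) (hM : PicF.IsInvertible M) :
    clR k X (CohB1.tensorMod L M) (InvPow.isInvertible_tensorMod hL hM) = clR k X L hL + clR k X M hM := by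
  have e : PicGrp.cls (CohB1.tensorMod L M) (InvPow.isInvertible_tensorMod hL hM) =
      PicGrp.cls L hL * PicGrp.cls M hM := Subtype.ext (PicGrp.cls_mul_cls_val hL hM).symm
  rw [clR_def, clR_def, clR_def, ← map_add]
  show toN1R k X (toN1 k X (Additive.ofMul _)) = _
  rw [e, ofMul_mul, map_add]
  rfl

theorem clR_pow {L : X.Modules} (hL : PicF.IsInvertible L) (n : ℕ) :
    clR k X (CohB1.tensorPow L n) (InvPow.isInvertible_tensorPow hL n) = (n : ℝ) • clR k X L hL := by
  have e : PicGrp.cls (CohB1.tensorPow L n) (InvPow.isInvertible_tensorPow hL n) = PicGrp.cls L hL ^ n :=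
    Subtype.ext (PicGrp.cls_pow_val hL n).symm
  rw [Nat.cast_smul_eq_nsmul, clR_def, clR_def, ← map_nsmul]
  show toN1R k X (toN1 k X (Additive.ofMul _)) = _
  rw [e, ofMul_pow, map_nsmul]
  rfl

theorem clR_inverse {L M : X.Modules} (hL : PicF.IsInvertible L) (hM : PicF.IsInvertible M)
    (e : CohB1.tensorMod L M ≅ Coh.structureModule X) : clR k X M hM = -clR k X L hL := by
  have e' := PicGrp.cls_inv_eq_cls hL hM ⟨e⟩
  rw [clR_def, clR_def, ← map_neg]
  show toN1R k X (toN1 k X (Additive.ofMul _)) = _
  rw [← e', ofMul_inv, map_neg]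
  rfl

variable [IsProper (X ↘ (Spec (CommRingCat.of k)))]

/-- Small perturbations of an ample class stay in the ample cone. -/
theorem exists_perturb {H L : X.Modules} (hH : CohB1.IsAmple H) (hL : PicF.IsInvertible L) :
    ∃ m₀ : ℕ, ∀ m : ℕ, m₀ ≤ m → (m : ℝ) • clR k X H hH.1 + clR k X L hL ∈ ampleCone k X := by
  haveI : X.IsSeparated := InvPow.isSeparated_of_isAmple hH
  haveI : CompactSpace X := hH.2.1
  obtain ⟨m₀, -, hm⟩ := Groth.Agent.S2329.result X H L hH hL
  refine ⟨m₀, fun m hm' => ConvexCone.subset_hull ⟨_, InvPow.isInvertible_tensorMod (InvPow.isInvertible_tensorPow hH.1 m) hL,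
    (hm m hm').1, ?_⟩⟩
  rw [clR_tensor (InvPow.isInvertible_tensorPow hH.1 m) hL, clR_pow hH.1 m]

variable [Module.Finite ℝ (N1R k X)]

/-- An ample class is interior to the ample cone. -/
theorem mem_interior_ampleCone {H : X.Modules} (hH : CohB1.IsAmple H) :
    clR k X H hH.1 ∈ interior (ampleCone k X : Set (N1R k X)) := by
  classical
  haveI : IsTopologicalAddGroup (N1R k X) := IsModuleTopology.topologicalAddGroup ℝ _
  let G : Set (N1R k X) := {x | ∃ (L : X.Modules) (hL : PicF.IsInvertible L), x = clR k X L hL}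
  have hfg : (Submodule.span ℝ G).FG := by rw [span_clR]; exact Module.Finite.fg_top
  obtain ⟨s, hs, hspan⟩ := (Submodule.fg_span_iff_fg_span_finset_subset G).1 hfg
  let f : (s → ℝ) →ₗ[ℝ] N1R k X := Fintype.linearCombination ℝ fun v : s => (v : N1R k X)
  have hf : LinearMap.range f = ⊤ := by
    rw [Fintype.range_linearCombination, Subtype.range_coe_subtype, Finset.setOf_mem, ← hspan, span_clR]
  obtain ⟨g, hg⟩ := f.exists_rightInverse_of_surjective hf
  choose L hL hLv using fun v : s => hs v.2
  choose M hM using fun v : s => NegVanish.exists_inverse (hL v)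
  have hMi : ∀ v : s, PicF.IsInvertible (M v) := fun v => NegVanish.isInvertible_of_inverse (hL v) (hM v)
  choose a ha using fun v : s => exists_perturb (k := k) hH (hL v)
  choose b hb using fun v : s => exists_perturb (k := k) hH (hMi v)
  let m : ℕ := (Finset.univ.sup a) + (Finset.univ.sup b) + 1
  have hmem : ∀ (v : s) (σ : ℝ), σ = 1 ∨ σ = -1 →
      (m : ℝ) • clR k X H hH.1 + σ • (v : N1R k X) ∈ ampleCone k X := by
    intro v σ hσ
    rcases hσ with rfl | rfl
    · rw [one_smul, hLv v]
      exact ha v m (by have := Finset.le_sup (f := a) (Finset.mem_univ v); omega)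
    · rw [neg_one_smul, hLv v, ← clR_inverse (hL v) (hMi v) (hM v).some]
      exact hb v m (by have := Finset.le_sup (f := b) (Finset.mem_univ v); omega)
  have hgc : Continuous fun y : N1R k X => g (y - clR k X H hH.1) :=
    (IsModuleTopology.continuous_of_linearMap g).comp (continuous_id.sub continuous_const)
  have hcont : Continuous fun y : N1R k X => (m : ℝ) * ∑ v, |g (y - clR k X H hH.1) v| :=
    continuous_const.mul (continuous_finsetSum _ fun v _ => ((continuous_apply v).comp hgc).abs)
  refine mem_interior.2 ⟨{y | (m : ℝ) * ∑ v, |g (y - clR k X H hH.1) v| < 1}, fun y hy => ?_,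
    isOpen_lt hcont continuous_const, by simp⟩
  let c : s → ℝ := g (y - clR k X H hH.1)
  have hy' : y = (1 - (m : ℝ) * ∑ v, |c v|) • clR k X H hH.1 +
      ∑ v, (|c v| • ((m : ℝ) • clR k X H hH.1) + c v • (v : N1R k X)) := by
    have h := LinearMap.congr_fun hg (y - clR k X H hH.1)
    simp only [LinearMap.coe_comp, Function.comp_apply, LinearMap.id_coe, id_eq, f,
      Fintype.linearCombination_apply] at h
    rw [Finset.sum_add_distrib, h, ← Finset.sum_smul, smul_smul]
    module
  rw [hy', SetLike.mem_coe]
  have hH0 : clR k X H hH.1 ∈ ampleCone k X := ConvexCone.subset_hull ⟨H, hH.1, hH, rfl⟩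
  have hterm : ∀ v : s, |c v| • ((m : ℝ) • clR k X H hH.1) + c v • (v : N1R k X) ∈ ampleCone k X ∨
      |c v| • ((m : ℝ) • clR k X H hH.1) + c v • (v : N1R k X) = 0 := fun v => by
    rcases lt_trichotomy (c v) 0 with h | h | h
    · left
      rw [abs_of_neg h, show c v • (v : N1R k X) = (-c v) • ((-1 : ℝ) • (v : N1R k X)) by module, ← smul_add]
      exact (ampleCone k X).smul_mem (neg_pos.2 h) (hmem v (-1) (Or.inr rfl))
    · right
      rw [h, abs_zero, zero_smul, zero_smul, add_zero]
    · left
      rw [abs_of_pos h, show c v • (v : N1R k X) = c v • ((1 : ℝ) • (v : N1R k X)) by module, ← smul_add]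
      exact (ampleCone k X).smul_mem h (hmem v 1 (Or.inl rfl))
  have key : ∀ T : Finset s, (1 - (m : ℝ) * ∑ v, |c v|) • clR k X H hH.1 +
      ∑ v ∈ T, (|c v| • ((m : ℝ) • clR k X H hH.1) + c v • (v : N1R k X)) ∈ ampleCone k X := by
    intro T
    induction T using Finset.induction_on with
    | empty =>
      rw [Finset.sum_empty, add_zero]
      exact (ampleCone k X).smul_mem (sub_pos.2 hy) hH0
    | insert v T hv ih =>
      rw [Finset.sum_insert hv, ← add_assoc, add_comm ((1 - (m : ℝ) * ∑ v, |c v|) • clR k X H hH.1) _, add_assoc]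
      rcases hterm v with h | h
      · exact (ampleCone k X).add_mem h ih
      · rw [h, zero_add]; exact ih
  exact key Finset.univ

/-- The ample cone is open. -/
theorem isOpen_ampleCone : IsOpen (ampleCone k X : Set (N1R k X)) := by
  haveI : IsTopologicalAddGroup (N1R k X) := IsModuleTopology.topologicalAddGroup ℝ _
  rw [← subset_interior_iff_isOpen]
  let C : ConvexCone ℝ (N1R k X) :=
    { carrier := interior (ampleCone k X : Set (N1R k X))
      smul_mem' := fun c hc x hx => by
        refine mem_interior.2 ⟨(fun z => c⁻¹ • z) ⁻¹' interior (ampleCone k X : Set (N1R k X)), fun z hz => ?_,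
          isOpen_interior.preimage (continuous_const_smul c⁻¹), ?_⟩
        · have := (ampleCone k X).smul_mem hc (interior_subset hz)
          rwa [smul_inv_smul₀ hc.ne'] at this
        · show c⁻¹ • c • x ∈ interior (ampleCone k X : Set (N1R k X))
          rwa [inv_smul_smul₀ hc.ne']
      add_mem' := fun x hx y hy => by
        refine mem_interior.2 ⟨(fun z => z - y) ⁻¹' interior (ampleCone k X : Set (N1R k X)), fun z hz => ?_,
          isOpen_interior.preimage (continuous_id.sub continuous_const), ?_⟩
        · have := (ampleCone k X).add_mem (interior_subset hz) (interior_subset hy)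
          rwa [sub_add_cancel] at this
        · show x + y - y ∈ interior (ampleCone k X : Set (N1R k X))
          rwa [add_sub_cancel_right] }
  have : ampleCone k X ≤ C := ConvexCone.hull_min (by
    rintro x ⟨L, hL, hamp, rfl⟩
    exact mem_interior_ampleCone hamp)
  exact this

omit [Module.Finite ℝ (N1R k X)] in
/-- Ample classes are positive. -/
theorem ampleCone_subset_posCone [IsAlgClosed k] [Smooth (X ↘ (Spec (CommRingCat.of k)))] [IsIntegral X]
    (hdim : topologicalKrullDim X = 2) (B : N1R k X →ₗ[ℝ] N1R k X →ₗ[ℝ] ℝ) (hB : IsIntForm₂ k X B) {H : X.Modules}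
    (hH : CohB1.IsAmple H) : (ampleCone k X : Set (N1R k X)) ⊆ posCone k X B H hH.1 := by
  let C : ConvexCone ℝ (N1R k X) :=
    { carrier := posCone k X B H hH.1
      smul_mem' := fun c hc x hx => ⟨by
          simp only [map_smul, LinearMap.smul_apply, smul_eq_mul]
          exact mul_pos hc (mul_pos hc hx.1), by
          simp only [map_smul, LinearMap.smul_apply, smul_eq_mul]
          exact mul_pos hc hx.2⟩
      add_mem' := fun x hx y hy => ⟨by
          have h := form_pos_of_mem hdim B hB H hH x y hx hy.1.le hy.2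
          simp only [map_add, LinearMap.add_apply]
          rw [form_symm hdim B hB y x]
          linarith [hx.1, hy.1], by
          simp only [map_add, LinearMap.add_apply]
          linarith [hx.2, hy.2]⟩ }
  have : ampleCone k X ≤ C := ConvexCone.hull_min (by
    rintro x ⟨L, hL, hamp, rfl⟩
    refine ⟨form_ample_pos hdim B hB L hamp, ?_⟩
    rw [form_clR hdim B hB hL hH.1, Int.cast_pos]
    exact IntTh.inum_pos_of_ample k (r := 2) rfl (fun A hA => by
      rcases List.mem_cons.1 hA with rfl | hA
      · exact hamp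
      · rw [List.mem_singleton.1 hA]; exact hH) (hdim.trans Nat.cast_ofNat.symm))
  exact this

end Groth.Agent.SurfRR
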