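import Groth.Agent.SurfRR.NakaiReal

/-!
# Kleiman's criterion on a surface
-/

set_option autoImplicit false
set_option linter.style.haveILetI false

universe u

open CategoryTheory CategoryTheory.Limits AlgebraicGeometry TopologicalSpace NumR

namespace Groth.Agent.SurfRR

open Groth.Agent.HilbPoly Groth.Agent.IntTh

variable {k : Type u} [Field k] [IsAlgClosed k] {X : Scheme.{u}} [X.Over (Spec (CommRingCat.of k))]
  [IsProper (X ↘ (Spec (CommRingCat.of k)))] [Smooth (X ↘ (Spec (CommRingCat.of k)))] [IsIntegral X]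
  (hdim : topologicalKrullDim X = 2) [PicGrp.Law X] [Module.Finite ℝ (N1R k X)]
  (B : N1R k X →ₗ[ℝ] N1R k X →ₗ[ℝ] ℝ) (hB : IsIntForm₂ k X B) (H : X.Modules) (hH : CohB1.IsAmple H)

include hdim hB hH in
omit [Module.Finite ℝ (N1R k X)] in
/-- Ample classes are positive on curves. -/
theorem ampleCone_curve_pos {x : N1R k X} (hx : x ∈ ampleCone k X) {I : X.IdealSheafData}
    (hint : IsIntegral I.subscheme) (hd : topologicalKrullDim (I.support : Set X) = 1)
    (hI : PicF.IsInvertible (ClSub.idealMod I)) : 0 < B x (curveCl k X I hI) := by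
  let C : ConvexCone ℝ (N1R k X) :=
    { carrier := {w | 0 < B w (curveCl k X I hI)}
      smul_mem' := fun c hc w (hw : 0 < B w (curveCl k X I hI)) => by
        show 0 < B (c • w) (curveCl k X I hI)
        rw [map_smul, LinearMap.smul_apply, smul_eq_mul]; exact mul_pos hc hw
      add_mem' := fun w (hw : 0 < B w (curveCl k X I hI)) w' (hw' : 0 < B w' (curveCl k X I hI)) => by
        show 0 < B (w + w') (curveCl k X I hI)
        rw [map_add, LinearMap.add_apply]; exact add_pos hw hw' }
  refine (show ampleCone k X ≤ C from ConvexCone.hull_min ?_) hx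
  rintro _ ⟨L, hL, hamp, rfl⟩
  exact form_ample_curve_pos hdim B hB L hamp hint hd hI

include hdim hB hH in
/-- Membership in the ample cone. -/
theorem mem_ampleCone_iff {x : N1R k X} : x ∈ (ampleCone k X : Set (N1R k X)) ↔
    (0 < B x x ∧ ∀ (I : X.IdealSheafData), IsIntegral I.subscheme → topologicalKrullDim (I.support : Set X) = 1 →
      ∀ hI : PicF.IsInvertible (ClSub.idealMod I), 0 < B x (curveCl k X I hI)) :=
  ⟨fun hx => ⟨(ampleCone_subset_posCone hdim B hB hH hx).1, fun _ h1 h2 hI => ampleCone_curve_pos hdim B hB H hH hx h1 h2 hI⟩,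
    fun ⟨h1, h2⟩ => mem_ampleCone_of_pos hdim B hB H hH h1 h2⟩

include hdim hB in
omit [IsAlgClosed k] [Module.Finite ℝ (N1R k X)] in
/-- A nef class plus a multiple of an ample one with positive square is ample. -/
theorem nef_add_ample_curve {x : N1R k X} (hx : x ∈ nefCone₂ k X B) {y : N1R k X}
    (hy : ∀ (I : X.IdealSheafData), IsIntegral I.subscheme → topologicalKrullDim (I.support : Set X) = 1 →
      ∀ hI : PicF.IsInvertible (ClSub.idealMod I), 0 < B y (curveCl k X I hI)) (I : X.IdealSheafData)
    (h1 : IsIntegral I.subscheme) (h2 : topologicalKrullDim (I.support : Set X) = 1)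
    (hI : PicF.IsInvertible (ClSub.idealMod I)) : 0 < B (x + y) (curveCl k X I hI) := by
  rw [map_add, LinearMap.add_apply]
  linarith [hx I h1 h2 hI, hy I h1 h2 hI]

include hdim hB hH in
/-- Nef classes pair nonnegatively with ample classes. -/
theorem form_nef_ample {x a : N1R k X} (hx : x ∈ nefCone₂ k X B) (ha : a ∈ ampleCone k X) : 0 ≤ B x a := by
  let C : ConvexCone ℝ (N1R k X) :=
    { carrier := {w | 0 ≤ B x w}
      smul_mem' := fun c hc w (hw : 0 ≤ B x w) => by
        show 0 ≤ B x (c • w)
        rw [map_smul, smul_eq_mul]; exact mul_nonneg hc.le hw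
      add_mem' := fun w (hw : 0 ≤ B x w) w' (hw' : 0 ≤ B x w') => by
        show 0 ≤ B x (w + w')
        rw [map_add]; exact add_nonneg hw hw' }
  refine (show ampleCone k X ≤ C from ConvexCone.hull_min ?_) ha
  rintro _ ⟨L, hL, hamp, rfl⟩
  exact form_ample_nonneg hdim B hB L hamp hx

include hdim hB hH in
/-- **Kleiman**: nef classes have nonnegative square. -/
theorem nef_self_nonneg {x : N1R k X} (hx : x ∈ nefCone₂ k X B) : 0 ≤ B x x := by
  by_contra! hneg
  let h := clR k X H hH.1
  have hhh : 0 < B h h := form_ample_pos hdim B hB H hH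
  have hxh : 0 ≤ B x h := form_ample_nonneg hdim B hB H hH hx
  let d := Real.sqrt (B x h ^ 2 - B h h * B x x)
  have hd0 : 0 < B x h ^ 2 - B h h * B x x := by nlinarith [mul_pos hhh (neg_pos.2 hneg), sq_nonneg (B x h)]
  have hd : d ^ 2 = B x h ^ 2 - B h h * B x x := Real.sq_sqrt hd0.le
  have hdpos : 0 < d := Real.sqrt_pos.2 hd0
  have hdh : B x h < d := by nlinarith [mul_pos hhh (neg_pos.2 hneg)]
  let t0 := (d - B x h) / B h h
  have ht0 : 0 < t0 := div_pos (sub_pos.2 hdh) hhh
  have hamp : ∀ t, t0 < t → x + t • h ∈ ampleCone k X := fun t ht => by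
    refine mem_ampleCone_of_pos hdim B hB H hH ?_ fun I h1 h2 hI => nef_add_ample_curve hdim B hB hx ?_ I h1 h2 hI
    · simp only [map_add, map_smul, LinearMap.add_apply, LinearMap.smul_apply, smul_eq_mul]
      rw [form_symm hdim B hB h x]
      have h1 : d < t * B h h + B x h := by
        have := (div_lt_iff₀ hhh).1 ht
        linarith
      have h2 : d ^ 2 < (t * B h h + B x h) ^ 2 := by nlinarith
      have h3 : 0 < B h h * (B x x + t * B x h + t * (B x h + t * B h h)) := by nlinarith
      exact (mul_pos_iff_of_pos_left hhh).1 h3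
    · intro I h1 h2 hI
      rw [map_smul, LinearMap.smul_apply, smul_eq_mul]
      exact mul_pos (ht0.trans ht) (form_ample_curve_pos hdim B hB H hH h1 h2 hI)
  have hlim : 0 ≤ B x x + t0 * B x h := by
    refine ge_of_tendsto (((continuous_const.add (continuous_id.mul continuous_const)).tendsto t0).mono_left
      (nhdsWithin_le_nhds (s := Set.Ioi t0))) (eventually_nhdsWithin_of_forall fun t ht => ?_)
    have h1 := form_nef_ample hdim B hB H hH hx (hamp t ht)
    simpa using h1
  have : B h h * (B x x + t0 * B x h) = B h h * B x x + (d - B x h) * B x h := by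
    simp only [t0]
    field_simp
  have h5 : 0 ≤ B h h * (B x x + t0 * B x h) := mul_nonneg hhh.le hlim
  nlinarith [mul_pos hdpos (sub_pos.2 hdh)]

include hdim hB hH in
/-- A nef class plus an ample class is ample. -/
theorem nef_add_mem_ampleCone {x y : N1R k X} (hx : x ∈ nefCone₂ k X B) (hy : y ∈ ampleCone k X) :
    x + y ∈ ampleCone k X := by
  obtain ⟨hyy, hyC⟩ := (mem_ampleCone_iff hdim B hB H hH).1 hy
  refine mem_ampleCone_of_pos hdim B hB H hH ?_ fun I h1 h2 hI => nef_add_ample_curve hdim B hB hx hyC I h1 h2 hI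
  simp only [map_add, LinearMap.add_apply]
  rw [form_symm hdim B hB y x]
  linarith [nef_self_nonneg hdim B hB H hH hx, form_nef_ample hdim B hB H hH hx hy]

include hdim hB hH in
/-- The closure of the ample cone is the nef cone. -/
theorem closure_ampleCone :
    closure (ampleCone k X : Set (N1R k X)) = {x | 0 ≤ B x x ∧ x ∈ nefCone₂ k X B} := by
  have h1 : Continuous fun v : N1R k X => B v v :=
    (IsModuleTopology.continuous_bilinear_of_finite_left B).comp (continuous_id.prodMk continuous_id)
  ext x
  constructor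
  · intro hx
    refine ⟨?_, fun I h2 h3 hI => ?_⟩
    · exact closure_minimal (fun y hy => (ampleCone_subset_posCone hdim B hB hH hy).1.le)
        (isClosed_le continuous_const h1) hx
    · exact closure_minimal (fun y hy => (ampleCone_curve_pos hdim B hB H hH hy h2 h3 hI).le)
        (isClosed_le continuous_const (IsModuleTopology.continuous_of_linearMap (B.flip (curveCl k X I hI)))) hx
  · intro hx
    haveI : IsTopologicalAddGroup (N1R k X) := IsModuleTopology.topologicalAddGroup ℝ _
    have hc : Continuous fun t : ℝ => x + t • clR k X H hH.1 :=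
      continuous_const.add (IsModuleTopology.continuous_of_linearMap (LinearMap.toSpanSingleton ℝ (N1R k X) (clR k X H hH.1)))
    refine mem_closure_of_tendsto (b := nhdsWithin (0 : ℝ) (Set.Ioi 0))
      (((hc.tendsto 0).mono_left nhdsWithin_le_nhds).congr' (Filter.EventuallyEq.refl _ _) |> fun h => by simpa using h)
      (eventually_nhdsWithin_of_forall fun t ht => ?_)
    exact nef_add_mem_ampleCone hdim B hB H hH hx.2
      ((ampleCone k X).smul_mem ht (ConvexCone.subset_hull ⟨H, hH.1, hH, rfl⟩))

include hdim hB hH in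
/-- The closure of the ample cone inside the positive cone. -/
theorem closure_ampleCone_inter :
    closure (ampleCone k X : Set (N1R k X)) ∩ posCone k X B H hH.1 = {x | 0 < B x x ∧ x ∈ nefCone₂ k X B} := by
  rw [closure_ampleCone hdim B hB H hH]
  ext x
  refine ⟨fun ⟨⟨_, h1⟩, h2⟩ => ⟨h2.1, h1⟩, fun ⟨h1, h2⟩ => ⟨⟨h1.le, h2⟩, h1, ?_⟩⟩
  refine lt_of_le_of_ne (form_ample_nonneg hdim B hB H hH h2) fun h => ?_
  obtain rfl := form_eq_zero_of_perp hdim B hB H hH x h.symm h1.le
  simp at h1

end Groth.Agent.SurfRR
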