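import Groth.Agent.SurfRR.NefCone
import Groth.Agent.ConnDiv.Loci
import Mathlib.LinearAlgebra.Matrix.ToLinearEquiv

/-!
# Negative definite configurations of curves
-/

set_option autoImplicit false
set_option linter.style.haveILetI false

universe u

open CategoryTheory CategoryTheory.Limits AlgebraicGeometry TopologicalSpace NumR

namespace Groth.Agent.SurfRR

open Groth.Agent.HilbPoly Groth.Agent.IntTh Groth.Agent.InvBasic Groth.Agent.InvPow Groth.Agent.ProjUniv

variable {k : Type u} [Field k] [IsAlgClosed k] {X : Scheme.{u}} [X.Over (Spec (CommRingCat.of k))]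
  [IsProper (X ↘ (Spec (CommRingCat.of k)))] [Smooth (X ↘ (Spec (CommRingCat.of k)))] [IsIntegral X]
  (hdim : topologicalKrullDim X = 2) [PicGrp.Law X]
  (B : N1R k X →ₗ[ℝ] N1R k X →ₗ[ℝ] ℝ) (hB : IsIntForm₂ k X B) (H : X.Modules) (hH : CohB1.IsAmple H)

include hdim hB in
omit [IsAlgClosed k] in
/-- Distinct curves meet nonnegatively. -/
theorem form_curves_nonneg {I J : X.IdealSheafData} (hI1 : IsIntegral I.subscheme)
    (hI2 : topologicalKrullDim (I.support : Set X) = 1) (hI : PicF.IsInvertible (ClSub.idealMod I))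
    (hJ1 : IsIntegral J.subscheme) (hJ2 : topologicalKrullDim (J.support : Set X) = 1)
    (hJ : PicF.IsInvertible (ClSub.idealMod J)) (hne : I ≠ J) :
    0 ≤ B (curveCl k X I hI) (curveCl k X J hJ) := by
  haveI := hJ1
  haveI := hI1
  obtain ⟨M, ⟨e⟩⟩ := NegVanish.exists_inverse hI
  have hM : PicF.IsInvertible M := NegVanish.isInvertible_of_inverse hI ⟨e⟩
  rw [show curveCl k X I hI = clR k X M hM from (clR_inverse hI hM e).symm,
    form_curve hdim B hB hM J.subschemeι (Scheme.IdealSheafData.ker_subschemeι J) hJ, Int.cast_nonneg_iff]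
  obtain ⟨c⟩ := ProjTwist.nonempty_tensorMod_comm M (ClSub.idealMod I)
  obtain ⟨σ, hσ⟩ := ConnDiv.exists_section_compl_support hI hM ⟨c ≪≫ e⟩
  obtain ⟨σ', hσ'⟩ := exists_gen_pow_one hM σ
  have hd1 : topologicalKrullDim J.subscheme = 1 := by
    rw [CurveDeg.dim_source J.subschemeι, Scheme.IdealSheafData.range_subschemeι, hJ2]
  refine inumOn_nonneg_of_section hM one_pos σ' J.subschemeι hd1 ?_
  by_contra hempty
  apply hne
  have hsub : (J.support : Set X) ⊆ (I.support : Set X) := by
    intro y hy
    rw [← hσ]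
    intro hy'
    refine hempty ⟨y, ?_, ?_⟩
    · rw [Scheme.IdealSheafData.range_subschemeι]; exact hy
    · rw [hσ']; exact hy'
  have hirr : IsIrreducible (I.support : Set X) := by
    rw [← I.range_subschemeι, ← Set.image_univ]
    exact (IrreducibleSpace.isIrreducible_univ I.subscheme).image _ I.subschemeι.continuous.continuousOn
  have heq : (J.support : Set X) = (I.support : Set X) := by
    by_contra hcon
    have hJne : (J.support : Set X).Nonempty := by
      rw [← J.range_subschemeι]
      exact Set.range_nonempty _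
    have h1 := dim_add_one_le J.support.isClosed hirr I.support.isClosed
      (ssubset_of_subset_of_ne hsub hcon) hJne
    rw [hI2, hJ2] at h1
    exact absurd h1 (by decide)
  rw [← Scheme.IdealSheafData.ker_subschemeι I, ← Scheme.IdealSheafData.ker_subschemeι J,
    ker_eq_vanishingIdeal I.subschemeι (C := I.support) (Scheme.IdealSheafData.range_subschemeι I),
    ker_eq_vanishingIdeal J.subschemeι (C := I.support) ((Scheme.IdealSheafData.range_subschemeι J).trans heq)]

section Family

variable {r : ℕ} (C : Fin r → X.IdealSheafData) (hCinv : ∀ i, PicF.IsInvertible (ClSub.idealMod (C i)))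

/-- The class of a combination of the curves. -/
noncomputable def comb (c : Fin r → ℝ) : N1R k X := ∑ i, c i • curveCl k X (C i) (hCinv i)

omit [IsAlgClosed k] [IsProper (X ↘ (Spec (CommRingCat.of k)))] [Smooth (X ↘ (Spec (CommRingCat.of k)))] [IsIntegral X] in
theorem form_comb (c d : Fin r → ℝ) :
    B (comb C hCinv c) (comb C hCinv d) =
      ∑ i, ∑ j, c i * d j * B (curveCl k X (C i) (hCinv i)) (curveCl k X (C j) (hCinv j)) := by
  simp only [comb, map_sum, map_smul, LinearMap.sum_apply, LinearMap.smul_apply, smul_eq_mul, Finset.mul_sum]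
  rw [Finset.sum_comm]
  exact Finset.sum_congr rfl fun i _ => Finset.sum_congr rfl fun j _ => by ring

variable (hneg : ∀ a : Fin r → ℤ, a ≠ 0 →
  ∑ i, ∑ j, a i * a j * FGA.intNum k X 2 ![ClSub.idealMod (C i), ClSub.idealMod (C j)] (Coh.structureModule X) < 0)

include hdim hB in
omit [IsAlgClosed k] in
theorem form_curve_curve (i j : Fin r) : B (curveCl k X (C i) (hCinv i)) (curveCl k X (C j) (hCinv j)) =
    (FGA.intNum k X 2 ![ClSub.idealMod (C i), ClSub.idealMod (C j)] (Coh.structureModule X) : ℝ) := by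
  rw [← hB _ _ (hCinv i) (hCinv j)]
  simp [curveCl]

include hdim hB hneg in
omit [IsAlgClosed k] in
theorem comb_self_nonpos (c : Fin r → ℝ) : B (comb C hCinv c) (comb C hCinv c) ≤ 0 := by
  rw [form_comb]
  simp only [form_curve_curve hdim B hB C hCinv]
  let g : Fin r → Fin r → ℤ := fun i j => FGA.intNum k X 2 ![ClSub.idealMod (C i), ClSub.idealMod (C j)] (Coh.structureModule X)
  let f : (Fin r → ℝ) → ℝ := fun s => ∑ i, ∑ j, s i * s j * (g i j : ℝ)
  have hcont : Continuous f := by fun_prop
  let a : ℕ → Fin r → ℝ := fun m i => (⌊(m : ℝ) * c i⌋ : ℝ) / (m : ℝ)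
  have hlim : Filter.Tendsto a Filter.atTop (nhds c) := by
    refine tendsto_pi_nhds.2 fun i => ?_
    have h1 : Filter.Tendsto (fun m : ℕ => c i - 1 / (m : ℝ)) Filter.atTop (nhds (c i - 0)) :=
      tendsto_const_nhds.sub tendsto_one_div_atTop_nhds_zero_nat
    rw [sub_zero] at h1
    refine tendsto_of_tendsto_of_tendsto_of_le_of_le' h1 tendsto_const_nhds ?_ ?_
    · filter_upwards [Filter.eventually_gt_atTop 0] with m hm
      have hm' : (0 : ℝ) < m := by exact_mod_cast hm
      rw [le_div_iff₀ hm', sub_mul, one_div, inv_mul_cancel₀ hm'.ne']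
      nlinarith [Int.sub_one_lt_floor ((m : ℝ) * c i)]
    · filter_upwards [Filter.eventually_gt_atTop 0] with m hm
      have hm' : (0 : ℝ) < m := by exact_mod_cast hm
      rw [div_le_iff₀ hm']
      nlinarith [Int.floor_le ((m : ℝ) * c i)]
  refine le_of_tendsto ((hcont.tendsto c).comp hlim) (Filter.Eventually.of_forall fun m => ?_)
  have e : f (a m) = ((m : ℝ)⁻¹) ^ 2 * ((∑ i, ∑ j, ⌊(m : ℝ) * c i⌋ * ⌊(m : ℝ) * c j⌋ * g i j : ℤ) : ℝ) := by
    push_cast
    simp only [f, a, Finset.mul_sum, div_eq_mul_inv]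
    exact Finset.sum_congr rfl fun i _ => Finset.sum_congr rfl fun j _ => by ring
  show f (a m) ≤ 0
  rw [e]
  refine mul_nonpos_iff.2 (Or.inl ⟨sq_nonneg _, ?_⟩)
  rw [Int.cast_nonpos]
  by_cases h0 : (fun i => ⌊(m : ℝ) * c i⌋) = 0
  · simp [show ∀ i, ⌊(m : ℝ) * c i⌋ = 0 from fun i => congrFun h0 i]
  · exact (hneg _ h0).le

include hdim hB hneg in
omit [IsAlgClosed k] in
theorem bijective_pairing :
    Function.Bijective fun c : Fin r → ℝ => fun j => B (comb C hCinv c) (curveCl k X (C j) (hCinv j)) := by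
  classical
  let G : Matrix (Fin r) (Fin r) ℤ := Matrix.of fun i j =>
    FGA.intNum k X 2 ![ClSub.idealMod (C i), ClSub.idealMod (C j)] (Coh.structureModule X)
  have hdet : G.det ≠ 0 := fun h => by
    obtain ⟨v, hv, hv0⟩ := Matrix.exists_mulVec_eq_zero_iff.2 h
    have h1 := hneg v hv
    refine h1.ne ?_
    refine Finset.sum_eq_zero fun i _ => ?_
    have h2 := congrFun hv0 i
    simp only [Matrix.mulVec, dotProduct, G, Matrix.of_apply, Pi.zero_apply] at h2
    calc ∑ j, v i * v j * _ = v i * ∑ j, G i j * v j := by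
          rw [Finset.mul_sum]; exact Finset.sum_congr rfl fun j _ => by simp only [G, Matrix.of_apply]; ring
      _ = 0 := by rw [show ∑ j, G i j * v j = 0 from h2, mul_zero]
  let GR : Matrix (Fin r) (Fin r) ℝ := (G.map (Int.cast : ℤ → ℝ)).transpose
  have hu : IsUnit GR := by
    rw [Matrix.isUnit_iff_isUnit_det, Matrix.det_transpose, isUnit_iff_ne_zero]
    have e : (G.map (Int.cast : ℤ → ℝ)).det = (G.det : ℝ) := ((Int.castRingHom ℝ).map_det G).symm
    rw [e]
    exact Int.cast_ne_zero.2 hdet
  have e : (fun c : Fin r → ℝ => fun j => B (comb C hCinv c) (curveCl k X (C j) (hCinv j))) = GR.mulVec := by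
    funext c j
    simp only [comb, map_sum, map_smul, LinearMap.sum_apply, LinearMap.smul_apply, smul_eq_mul,
      form_curve_curve hdim B hB C hCinv, Matrix.mulVec, dotProduct, GR, G, Matrix.transpose_apply,
      Matrix.map_apply, Matrix.of_apply]
    exact Finset.sum_congr rfl fun i _ => mul_comm _ _
  rw [e]
  exact ⟨Matrix.mulVec_injective_iff_isUnit.2 hu, Matrix.mulVec_surjective_iff_isUnit.2 hu⟩

variable (hC : Function.Injective C) (hCi : ∀ i, IsIntegral (C i).subscheme)
  (hCd : ∀ i, topologicalKrullDim ((C i).support : Set X) = 1)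

include hdim hB hC hCi hCd in
omit [IsAlgClosed k] in
theorem comb_disjoint_nonneg (c d : Fin r → ℝ) (hc : ∀ i, 0 ≤ c i) (hd : ∀ i, 0 ≤ d i)
    (hdisj : ∀ i, c i * d i = 0) : 0 ≤ B (comb C hCinv c) (comb C hCinv d) := by
  rw [form_comb]
  refine Finset.sum_nonneg fun i _ => Finset.sum_nonneg fun j _ => ?_
  by_cases hij : i = j
  · subst hij; rw [hdisj i, zero_mul]
  · exact mul_nonneg (mul_nonneg (hc i) (hd j))
      (form_curves_nonneg hdim B hB (hCi i) (hCd i) (hCinv i) (hCi j) (hCd j) (hCinv j) (hC.ne hij))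

include hdim hB hH hCi hCd in
theorem comb_nonneg_eq_zero (c : Fin r → ℝ) (hc : ∀ i, 0 ≤ c i)
    (h : B (clR k X H hH.1) (comb C hCinv c) = 0) : c = 0 := by
  simp only [comb, map_sum, map_smul, smul_eq_mul] at h
  have hpos := fun i => form_ample_curve_pos hdim B hB H hH (hCi i) (hCd i) (hCinv i)
  funext i
  have := (Finset.sum_eq_zero_iff_of_nonneg (fun i _ => mul_nonneg (hc i) (hpos i).le)).1 h i (Finset.mem_univ i)
  exact (mul_eq_zero.1 this).resolve_right (hpos i).ne'

include hdim hB hH hCinv hneg in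
theorem finrank_ge [Module.Finite ℝ (N1R k X)] : r + 1 ≤ Module.finrank ℝ (N1R k X) := by
  let T : ℝ × (Fin r → ℝ) →ₗ[ℝ] N1R k X := (LinearMap.toSpanSingleton ℝ (N1R k X) (clR k X H hH.1)).coprod
    (Fintype.linearCombination ℝ fun i => curveCl k X (C i) (hCinv i))
  have hT : Function.Injective T := by
    rw [← LinearMap.ker_eq_bot, eq_bot_iff]
    rintro ⟨t, c⟩ htc
    have h0 : t • clR k X H hH.1 + comb C hCinv c = 0 := by
      simpa [T, comb, Fintype.linearCombination_apply] using htc
    have hcc : comb C hCinv c = -(t • clR k X H hH.1) := eq_neg_of_add_eq_zero_right h0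
    have h1 := comb_self_nonpos hdim B hB C hCinv hneg c
    rw [hcc] at h1
    simp only [map_neg, map_smul, LinearMap.neg_apply, LinearMap.smul_apply, smul_eq_mul] at h1
    have hpos := form_ample_pos hdim B hB H hH
    have ht : t = 0 := by
      by_contra ht
      nlinarith [mul_pos (mul_self_pos.2 ht) hpos]
    subst ht
    rw [zero_smul, neg_zero] at hcc
    have hc : c = 0 := (bijective_pairing hdim B hB C hCinv hneg).1 (by
      funext j
      show B (comb C hCinv c) _ = B (comb C hCinv 0) _
      rw [hcc]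
      simp [comb])
    subst hc
    simp
  have := LinearMap.finrank_le_finrank_of_injective hT
  rw [Module.finrank_prod, Module.finrank_self, Module.finrank_fin_fun] at this
  omega

include hdim hB hH hC hCi hCd in
theorem negDef_of_wall {x : N1R k X} (hx : x ∈ posCone k X B H hH.1) (hw : ∀ i, x ∈ wall k X B (C i) (hCinv i))
    (a : Fin r → ℤ) (ha : a ≠ 0) :
    ∑ i, ∑ j, a i * a j * FGA.intNum k X 2 ![ClSub.idealMod (C i), ClSub.idealMod (C j)] (Coh.structureModule X) < 0 := by
  have hperp : ∀ c : Fin r → ℝ, B x (comb C hCinv c) = 0 := fun c => by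
    simp only [comb, map_sum, map_smul, smul_eq_mul]
    exact Finset.sum_eq_zero fun i _ => by rw [show B x _ = 0 from hw i, mul_zero]
  let c : Fin r → ℝ := fun i => (a i : ℝ)
  have hcc : B (comb C hCinv c) (comb C hCinv c) < 0 := by
    by_contra! hnn
    have h0 := eq_zero_of_perp_pos hdim B hB H hH x (comb C hCinv c) hx hnn (hperp c)
    let p : Fin r → ℝ := fun i => max (c i) 0
    let q : Fin r → ℝ := fun i => max (-c i) 0
    have hp : ∀ i, 0 ≤ p i := fun i => le_max_right _ _
    have hq : ∀ i, 0 ≤ q i := fun i => le_max_right _ _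
    have hpq : ∀ i, p i * q i = 0 := fun i => by
      rcases le_total (c i) 0 with h | h <;> simp [p, q, h]
    have hsplit : (comb C hCinv p : N1R k X) = comb C hCinv q := by
      rw [← sub_eq_zero]
      simp only [comb] at h0 ⊢
      rw [← Finset.sum_sub_distrib, ← h0]
      exact Finset.sum_congr rfl fun i _ => by
        rw [← sub_smul]; congr 1
        rcases le_total (c i) 0 with h | h <;> simp [p, q, h]
    have hpp := comb_disjoint_nonneg hdim B hB C hCinv hC hCi hCd p q hp hq hpq
    rw [← hsplit] at hpp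
    have hp0 := eq_zero_of_perp_pos hdim B hB H hH x _ hx hpp (hperp p)
    have hp' : p = 0 := comb_nonneg_eq_zero hdim B hB H hH C hCinv hCi hCd p hp (by rw [hp0, map_zero])
    have hq' : q = 0 := comb_nonneg_eq_zero hdim B hB H hH C hCinv hCi hCd q hq (by rw [← hsplit, hp0, map_zero])
    apply ha
    funext i
    have h1 : max (c i) 0 = 0 := congrFun hp' i
    have h2 : max (-c i) 0 = 0 := congrFun hq' i
    have h3 : c i = 0 := le_antisymm (max_eq_right_iff.1 h1) (by linarith [max_eq_right_iff.1 h2])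
    simpa [c] using h3
  rw [form_comb] at hcc
  simp only [form_curve_curve hdim B hB C hCinv, c] at hcc
  exact_mod_cast hcc

include hdim hB hneg hC hCi hCd in
theorem exists_wall [Module.Finite ℝ (N1R k X)] :
    ∃ x : N1R k X, x ∈ closure (ampleCone k X : Set (N1R k X)) ∧ x ∈ posCone k X B H hH.1 ∧
      ∀ i, x ∈ wall k X B (C i) (hCinv i) := by
  classical
  let h := clR k X H hH.1
  obtain ⟨c, hc⟩ := (bijective_pairing hdim B hB C hCinv hneg).2 fun j => -B h (curveCl k X (C j) (hCinv j))
  have hxC : ∀ j, B (h + comb C hCinv c) (curveCl k X (C j) (hCinv j)) = 0 := fun j => by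
    have := congrFun hc j
    simp only at this
    rw [map_add, LinearMap.add_apply, this, add_neg_cancel]
  let p : Fin r → ℝ := fun i => max (c i) 0
  let q : Fin r → ℝ := fun i => max (-c i) 0
  have hq : ∀ i, 0 ≤ q i := fun i => le_max_right _ _
  have hcpq : (comb C hCinv c : N1R k X) = comb C hCinv p - comb C hCinv q := by
    simp only [comb]
    rw [← Finset.sum_sub_distrib]
    exact Finset.sum_congr rfl fun i _ => by
      rw [← sub_smul]; congr 1
      rcases le_total (c i) 0 with h | h <;> simp [p, q, h]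
  have hxq : B (h + comb C hCinv c) (comb C hCinv q) = 0 := by
    simp only [comb, map_sum, map_smul, smul_eq_mul]
    exact Finset.sum_eq_zero fun i _ => by rw [show B (h + ∑ j, c j • curveCl k X (C j) (hCinv j)) _ = 0 from hxC i, mul_zero]
  have hhq : 0 ≤ B h (comb C hCinv q) := by
    simp only [comb, map_sum, map_smul, smul_eq_mul]
    exact Finset.sum_nonneg fun i _ => mul_nonneg (hq i) (form_ample_curve_pos hdim B hB H hH (hCi i) (hCd i) (hCinv i)).le
  have hq0 : q = 0 := by
    refine comb_nonneg_eq_zero hdim B hB H hH C hCinv hCi hCd q hq ?_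
    have hpq := comb_disjoint_nonneg hdim B hB C hCinv hC hCi hCd p q (fun i => le_max_right _ _) hq fun i => by
      rcases le_total (c i) 0 with h | h <;> simp [p, q, h]
    have hqq := comb_self_nonpos hdim B hB C hCinv hneg q
    rw [hcpq] at hxq
    simp only [map_add, map_sub, LinearMap.add_apply, LinearMap.sub_apply] at hxq
    linarith
  have hc0 : ∀ i, 0 ≤ c i := fun i => by
    have : max (-c i) 0 = 0 := congrFun hq0 i
    linarith [max_eq_right_iff.1 this]
  have hhc : 0 ≤ B h (comb C hCinv c) := by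
    simp only [comb, map_sum, map_smul, smul_eq_mul]
    exact Finset.sum_nonneg fun i _ => mul_nonneg (hc0 i) (form_ample_curve_pos hdim B hB H hH (hCi i) (hCd i) (hCinv i)).le
  have hxc : B (h + comb C hCinv c) (comb C hCinv c) = 0 := by
    simp only [comb, map_sum, map_smul, smul_eq_mul]
    exact Finset.sum_eq_zero fun i _ => by rw [show B (h + ∑ j, c j • curveCl k X (C j) (hCinv j)) _ = 0 from hxC i, mul_zero]
  have hnef : h + comb C hCinv c ∈ nefCone₂ k X B := fun I h1 h2 hI => by
    by_cases hI' : ∃ i, C i = I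
    · obtain ⟨i, rfl⟩ := hI'
      exact (hxC i).ge
    · rw [map_add, LinearMap.add_apply]
      refine add_nonneg (form_ample_curve_pos hdim B hB H hH h1 h2 hI).le ?_
      simp only [comb, map_sum, map_smul, LinearMap.sum_apply, LinearMap.smul_apply, smul_eq_mul]
      exact Finset.sum_nonneg fun i _ => mul_nonneg (hc0 i)
        (form_curves_nonneg hdim B hB (hCi i) (hCd i) (hCinv i) h1 h2 hI fun he => hI' ⟨i, he⟩)
  have hpos : 0 < B (h + comb C hCinv c) (h + comb C hCinv c) := by
    rw [map_add (B (h + comb C hCinv c)), hxc, add_zero, map_add, LinearMap.add_apply, form_symm hdim B hB (comb C hCinv c) h]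
    linarith [form_ample_pos hdim B hB H hH]
  have hmem : h + comb C hCinv c ∈ closure (ampleCone k X : Set (N1R k X)) ∩ posCone k X B H hH.1 := by
    rw [closure_ampleCone_inter hdim B hB H hH]
    exact ⟨hpos, hnef⟩
  exact ⟨_, hmem.1, hmem.2, hxC⟩

end Family

end Groth.Agent.SurfRR
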