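import Groth.Agent.IntTh.Inum
import Groth.Agent.CohDual.ExtShProj
import Groth.Agent.InvPow.Resolution
import Groth.Agent.NegVanish.Main
import Groth.Agent.SSExist.ExtSheafHom
import Groth.Agent.FundLocal.HomInv

/-!
# Riemann–Roch on surfaces from duality
-/

set_option autoImplicit false
set_option linter.style.haveILetI false

universe u

open CategoryTheory CategoryTheory.Limits AlgebraicGeometry

namespace Groth.Agent.SurfRR

open Groth.Agent.HilbPoly Groth.Agent.IntTh

variable (k : Type u) [Field k] {X : Scheme.{u}} [X.Over (Spec (CommRingCat.of k))]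
  [IsProper (X ↘ Spec (CommRingCat.of k))]

/-- Euler characteristics on a surface are sums over three degrees. -/
theorem euler_eq (hdim : topologicalKrullDim X ≤ 2) {F : X.Modules} (hF : Coh.IsCoh F) :
    Curv2.euler k X F = (Module.finrank k (Coh.HH X F 0) : ℤ) - Module.finrank k (Coh.HH X F 1) +
      Module.finrank k (Coh.HH X F 2) := by
  rw [← eulerCharLE_eq_euler k hF (d := 2) ((topologicalKrullDim_subspace_le X _).trans hdim), FGA.eulerCharLE,
    Finset.sum_range_succ, Finset.sum_range_succ, Finset.sum_range_succ, Finset.sum_range_zero]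
  ring

/-- The intersection symbol of two invertible modules. -/
theorem intNum_pair (hdim : topologicalKrullDim X ≤ 2) {A B : X.Modules} (hA : PicF.IsInvertible A)
    (hB : PicF.IsInvertible B) :
    FGA.intNum k X 2 ![A, B] (Coh.structureModule X) = inum k [A, B] (Coh.structureModule X) := by
  haveI : IsLocallyNoetherian X := LocallyOfFiniteType.isLocallyNoetherian (X ↘ Spec (CommRingCat.of k))
  have hO : Coh.IsCoh (Coh.structureModule X) := InvPow.isCoh_of_isInvertible (HilbPoly.isInvertible_structureModule X)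
  rw [intNum_eq k hdim (M := ![A, B]) (fun i => by fin_cases i <;> assumption) hO,
    show List.ofFn ![A, B] = [A, B] by simp [List.ofFn_succ]]
  norm_num

/-- The value of the pairing. -/
theorem inum_pair {A B : X.Modules} :
    inum k [A, B] (Coh.structureModule X) = Curv2.euler k X (CohB1.tensorMod A B) - Curv2.euler k X A -
      Curv2.euler k X B + Curv2.euler k X (Coh.structureModule X) := by
  obtain ⟨cA⟩ := ProjTwist.nonempty_tensorMod_comm (Coh.structureModule X) A
  obtain ⟨cB⟩ := ProjTwist.nonempty_tensorMod_comm (Coh.structureModule X) B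
  let eA := cA ≪≫ SecTwist.unitorR A
  let eB := cB ≪≫ SecTwist.unitorR B
  simp only [inum]
  rw [euler_congr (ProjTwist.nonempty_tensorMod_iso eA (Iso.refl B)).some, euler_congr eA, euler_congr eB]
  ring

/-- A duality statement for the Euler characteristic. -/
def HasDuality (W : X.Modules) : Prop :=
  ∀ (F : X.Modules) [DCoh.HasSheafHom F], FlatMod.IsFinLocFree F → ∀ p : ℕ, p ≤ 2 →
    Nonempty (Module.Dual k (Coh.HH X F p) ≃ₗ[k] Coh.HH X ((DCoh.sheafHom F).obj W) (2 - p))

/-- `χ(M) = χ(L ⊗ W)` for `M` inverse to `L`. -/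
theorem euler_inverse (hdim : topologicalKrullDim X ≤ 2) {W L M : X.Modules} (hW : PicF.IsInvertible W)
    (hdual : HasDuality k W) (hL : PicF.IsInvertible L) (e : CohB1.tensorMod L M ≅ Coh.structureModule X) :
    Curv2.euler k X M = Curv2.euler k X (CohB1.tensorMod L W) := by
  haveI : IsLocallyNoetherian X := LocallyOfFiniteType.isLocallyNoetherian (X ↘ Spec (CommRingCat.of k))
  have hM : PicF.IsInvertible M := NegVanish.isInvertible_of_inverse hL ⟨e⟩
  haveI : ModSite.HasSheafHom (O := X.sheaf) M := Groth.Agent.ModGroth.hasSheafHom (O := X.sheaf) M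
  haveI : DCoh.HasSheafHom M :=
    ((ModSite.sheafHomAdj (O := X.sheaf) M).ofNatIsoLeft (Groth.Agent.ModGroth.tensorSymm (O := X.sheaf) M).symm).isLeftAdjoint
  obtain ⟨c⟩ := ProjTwist.nonempty_tensorMod_comm M L
  obtain ⟨e1⟩ := CohDual.nonempty_homMod_iso_of_inverse L M ⟨e⟩ ⟨c ≪≫ e⟩ W
  obtain ⟨c'⟩ := ProjTwist.nonempty_tensorMod_comm W L
  let eH : (DCoh.sheafHom M).obj W ≅ CohB1.tensorMod L W := ((SSExist.homXIso M).app W).symm ≪≫ e1 ≪≫ c'
  have h : ∀ p, p ≤ 2 → Module.finrank k (Coh.HH X M p) = Module.finrank k (Coh.HH X (CohB1.tensorMod L W) (2 - p)) := by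
    intro p hp
    obtain ⟨f1⟩ := hdual M (InvPow.isFinLocFree_of_isInvertible hM) p hp
    obtain ⟨f2⟩ := SSExist.nonempty_HH_linearEquiv_of_iso (A := k) eH (2 - p)
    rw [← Subspace.dual_finrank_eq]
    exact (f1.trans f2).finrank_eq
  rw [euler_eq k hdim (InvPow.isCoh_of_isInvertible hM),
    euler_eq k hdim (InvPow.isCoh_of_isInvertible (InvPow.isInvertible_tensorMod hL hW)),
    h 0 (by omega), h 1 (by omega), h 2 le_rfl]
  norm_num
  ring

/-- **Riemann–Roch.** -/
theorem riemann_roch (hdim : topologicalKrullDim X ≤ 2) {W L : X.Modules} (hW : PicF.IsInvertible W)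
    (hdual : HasDuality k W) (hL : PicF.IsInvertible L) :
    2 * Curv2.euler k X L = FGA.intNum k X 2 ![L, L] (Coh.structureModule X) -
      FGA.intNum k X 2 ![L, W] (Coh.structureModule X) + 2 * Curv2.euler k X (Coh.structureModule X) := by
  haveI : IsLocallyNoetherian X := LocallyOfFiniteType.isLocallyNoetherian (X ↘ Spec (CommRingCat.of k))
  obtain ⟨M, ⟨e⟩⟩ := NegVanish.exists_inverse hL
  have hM : PicF.IsInvertible M := NegVanish.isInvertible_of_inverse hL ⟨e⟩
  have hO : Coh.IsCoh (Coh.structureModule X) := InvPow.isCoh_of_isInvertible (HilbPoly.isInvertible_structureModule X)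
  have hd : topologicalKrullDim (CohB1.support (Coh.structureModule X)) ≤ (((1 : ℕ) + 1 : ℕ) : WithBot ℕ∞) :=
    ((topologicalKrullDim_subspace_le X _).trans hdim).trans (by norm_num)
  have hLM := inum_pair k (A := L) (B := M)
  rw [euler_congr e] at hLM
  have hneg : inum k [L, M] (Coh.structureModule X) = -inum k [L, L] (Coh.structureModule X) := by
    rw [inum_swap k hL hM, inum_head_inverse k hL hM ⟨e⟩ (l := [L]) (fun A hA => by
      rw [List.mem_singleton.1 hA]; exact hL) hO hd]
  have hMW := euler_inverse k hdim hW hdual hL e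
  obtain ⟨u⟩ := ProjTwist.nonempty_tensorMod_comm (Coh.structureModule X) W
  have h0 := euler_inverse k hdim hW hdual (HilbPoly.isInvertible_structureModule X)
    (M := Coh.structureModule X) (SecTwist.unitorR _)
  rw [euler_congr (u ≪≫ SecTwist.unitorR W)] at h0
  rw [intNum_pair k hdim hL hL, intNum_pair k hdim hL hW]
  have h1 := inum_pair k (A := L) (B := W)
  linarith

end Groth.Agent.SurfRR
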