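import Groth.Agent.SurfRR.NakaiCone

/-!
# The ample cone is the positive part of the nef cone
-/

set_option autoImplicit false
set_option linter.style.haveILetI false

universe u

open CategoryTheory CategoryTheory.Limits AlgebraicGeometry TopologicalSpace NumR

namespace Groth.Agent.SurfRR

open Groth.Agent.HilbPoly Groth.Agent.IntTh Groth.Agent.InvBasic Groth.Agent.InvPow Groth.Agent.ProjUniv

variable {k : Type u} [Field k] [IsAlgClosed k] {X : Scheme.{u}} [X.Over (Spec (CommRingCat.of k))]
  [IsProper (X ↘ (Spec (CommRingCat.of k)))] [Smooth (X ↘ (Spec (CommRingCat.of k)))] [IsIntegral X]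
  (hdim : topologicalKrullDim X = 2) [PicGrp.Law X]
  (B : N1R k X →ₗ[ℝ] N1R k X →ₗ[ℝ] ℝ) (hB : IsIntForm₂ k X B) (H : X.Modules) (hH : CohB1.IsAmple H)

omit [IsAlgClosed k] [IsProper (X ↘ (Spec (CommRingCat.of k)))] [Smooth (X ↘ (Spec (CommRingCat.of k)))] [IsIntegral X] in
/-- A class in an open cone is a positive combination of integral classes in it. -/
theorem mem_hull_integral {U : Set (N1R k X)} (hU : IsOpen U)
    (hcone : ∀ c : ℝ, 0 < c → ∀ y ∈ U, c • y ∈ U) {x : N1R k X} (hx : x ∈ U) :
    x ∈ ConvexCone.hull ℝ {v : N1R k X | v ∈ U ∧ ∃ (L : X.Modules) (hL : PicF.IsInvertible L), v = clR k X L hL} := by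
  haveI : IsTopologicalAddGroup (N1R k X) := IsModuleTopology.topologicalAddGroup ℝ _
  obtain ⟨n, r, z, rfl⟩ := exists_sum x
  let a : ℕ → Fin n → ℝ := fun m i => (⌊(m : ℝ) * r i⌋ : ℝ) / (m : ℝ)
  have hlim : Filter.Tendsto a Filter.atTop (nhds r) := by
    refine tendsto_pi_nhds.2 fun i => ?_
    have h1 : Filter.Tendsto (fun m : ℕ => r i - 1 / (m : ℝ)) Filter.atTop (nhds (r i - 0)) :=
      tendsto_const_nhds.sub tendsto_one_div_atTop_nhds_zero_nat
    rw [sub_zero] at h1
    refine tendsto_of_tendsto_of_tendsto_of_le_of_le' h1 tendsto_const_nhds ?_ ?_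
    · filter_upwards [Filter.eventually_gt_atTop 0] with m hm
      have hm' : (0 : ℝ) < m := by exact_mod_cast hm
      rw [le_div_iff₀ hm', sub_mul, one_div, inv_mul_cancel₀ hm'.ne']
      nlinarith [Int.sub_one_lt_floor ((m : ℝ) * r i)]
    · filter_upwards [Filter.eventually_gt_atTop 0] with m hm
      have hm' : (0 : ℝ) < m := by exact_mod_cast hm
      rw [div_le_iff₀ hm']
      nlinarith [Int.floor_le ((m : ℝ) * r i)]
  have hw : Filter.Tendsto (fun m => ∑ i, a m i • toN1R k X (z i)) Filter.atTop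
      (nhds (∑ i, r i • toN1R k X (z i))) :=
    tendsto_finsetSum _ fun i _ => ((tendsto_pi_nhds.1 hlim) i).smul tendsto_const_nhds
  have hwi : ∀ j : Fin n, Filter.Tendsto
      (fun m : ℕ => (∑ i, a m i • toN1R k X (z i)) + (((n : ℝ) + 1) / (m : ℝ)) • toN1R k X (z j))
      Filter.atTop (nhds (∑ i, r i • toN1R k X (z i))) := fun j => by
    have h2 : Filter.Tendsto (fun m : ℕ => (((n : ℝ) + 1) / (m : ℝ)) • toN1R k X (z j)) Filter.atTop
        (nhds ((0 : ℝ) • toN1R k X (z j))) := (tendsto_const_div_atTop_nhds_zero_nat ((n : ℝ) + 1)).smul tendsto_const_nhds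
    simpa using hw.add h2
  have hev : ∀ᶠ m : ℕ in Filter.atTop, 0 < m ∧ (∑ i, a m i • toN1R k X (z i)) ∈ U ∧
      ∀ j : Fin n, (∑ i, a m i • toN1R k X (z i)) + (((n : ℝ) + 1) / (m : ℝ)) • toN1R k X (z j) ∈ U :=
    (Filter.eventually_gt_atTop 0).and ((hw.eventually (hU.mem_nhds hx)).and
      (Filter.eventually_all.2 fun j => (hwi j).eventually (hU.mem_nhds hx)))
  obtain ⟨m, hm, hz0, hzj⟩ := hev.exists
  have hm' : (0 : ℝ) < m := by exact_mod_cast hm
  let w : N1 k X := ∑ i, ⌊(m : ℝ) * r i⌋ • z i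
  have hw' : toN1R k X w = (m : ℝ) • ∑ i, a m i • toN1R k X (z i) := by
    simp only [w, map_sum, Finset.smul_sum]
    refine Finset.sum_congr rfl fun i _ => ?_
    rw [map_zsmul, ← Int.cast_smul_eq_zsmul ℝ, smul_smul]
    simp only [a]
    rw [mul_div_cancel₀ _ hm'.ne']
  have hgen : ∀ y : N1 k X, toN1R k X y ∈ U →
      toN1R k X y ∈ {v : N1R k X | v ∈ U ∧ ∃ (L : X.Modules) (hL : PicF.IsInvertible L), v = clR k X L hL} :=
    fun y hy => by
      obtain ⟨L, hL, rfl⟩ := exists_eq_cl y
      exact ⟨hy, L, hL, rfl⟩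
  let C := ConvexCone.hull ℝ {v : N1R k X | v ∈ U ∧ ∃ (L : X.Modules) (hL : PicF.IsInvertible L), v = clR k X L hL}
  have hC0 : toN1R k X w ∈ C := ConvexCone.subset_hull (hgen _ (by rw [hw']; exact hcone _ hm' _ hz0))
  have hCj : ∀ j, toN1R k X (w + ((n : ℤ) + 1) • z j) ∈ C := fun j => ConvexCone.subset_hull (hgen _ (by
    have e : toN1R k X (w + ((n : ℤ) + 1) • z j) =
        (m : ℝ) • ((∑ i, a m i • toN1R k X (z i)) + (((n : ℝ) + 1) / (m : ℝ)) • toN1R k X (z j)) := by
      rw [map_add, hw', map_zsmul, ← Int.cast_smul_eq_zsmul ℝ, smul_add, smul_smul, mul_div_cancel₀ _ hm'.ne']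
      push_cast
      rfl
    rw [e]
    exact hcone _ hm' _ (hzj j)))
  let e : Fin n → ℝ := fun i => Int.fract ((m : ℝ) * r i) / ((n : ℝ) + 1)
  have he0 : ∀ i, 0 ≤ e i := fun i => div_nonneg (Int.fract_nonneg _) (by positivity)
  have hesum : ∑ i, e i < 1 := by
    simp only [e]
    rw [← Finset.sum_div, div_lt_one (by positivity)]
    calc ∑ i : Fin n, Int.fract ((m : ℝ) * r i) ≤ ∑ _i : Fin n, (1 : ℝ) :=
          Finset.sum_le_sum fun i _ => (Int.fract_lt_one _).le
      _ < (n : ℝ) + 1 := by simp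
  have key : ∀ T : Finset (Fin n), (1 - ∑ i, e i) • toN1R k X w +
      ∑ i ∈ T, e i • toN1R k X (w + ((n : ℤ) + 1) • z i) ∈ C := by
    classical
    intro T
    induction T using Finset.induction_on with
    | empty =>
      rw [Finset.sum_empty, add_zero]
      exact C.smul_mem (sub_pos.2 hesum) hC0
    | insert v T hv ih =>
      rw [Finset.sum_insert hv, add_left_comm]
      rcases (he0 v).eq_or_lt with h | h
      · rw [← h, zero_smul, zero_add]; exact ih
      · exact C.add_mem (C.smul_mem h (hCj v)) ih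
  have hfin : (1 - ∑ i, e i) • toN1R k X w + ∑ i, e i • toN1R k X (w + ((n : ℤ) + 1) • z i) =
      (m : ℝ) • ∑ i, r i • toN1R k X (z i) := by
    have hsp : (∑ i, e i • toN1R k X (w + ((n : ℤ) + 1) • z i)) =
        (∑ i, e i) • toN1R k X w + ∑ i, Int.fract ((m : ℝ) * r i) • toN1R k X (z i) := by
      rw [Finset.sum_smul, ← Finset.sum_add_distrib]
      refine Finset.sum_congr rfl fun i _ => ?_
      rw [map_add, map_zsmul, ← Int.cast_smul_eq_zsmul ℝ, smul_add, smul_smul]
      congr 2
      simp only [e]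
      push_cast
      rw [div_mul_cancel₀ _ (by positivity)]
    rw [hsp, ← add_assoc, ← add_smul, sub_add_cancel, one_smul]
    simp only [w, map_sum, Finset.smul_sum, smul_smul, ← Finset.sum_add_distrib]
    refine Finset.sum_congr rfl fun i _ => ?_
    rw [map_zsmul, ← Int.cast_smul_eq_zsmul ℝ, ← add_smul, Int.floor_add_fract]
  have := C.smul_mem (inv_pos.2 hm') (hfin ▸ key Finset.univ)
  rwa [inv_smul_smul₀ hm'.ne'] at this

include hdim hB in
omit [IsAlgClosed k] in
/-- Pairing with the class of a curve is the degree on it. -/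
theorem form_curve {L : X.Modules} (hL : PicF.IsInvertible L) {W : Scheme.{u}} (j : W ⟶ X) [IsClosedImmersion j]
    {I : X.IdealSheafData} (hker : j.ker = I) (hI : PicF.IsInvertible (ClSub.idealMod I)) :
    B (clR k X L hL) (curveCl k X I hI) = (inumOn k j [L] : ℝ) := by
  subst hker
  letI : W.Over (Spec (CommRingCat.of k)) := ⟨j ≫ (X ↘ Spec (CommRingCat.of k))⟩
  obtain ⟨L', ⟨e⟩⟩ := NegVanish.exists_inverse hL
  have hL' : PicF.IsInvertible L' := NegVanish.isInvertible_of_inverse hL ⟨e⟩
  have hk := intNum_ideal_inverse k hdim.le j hI hL e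
  rw [intNum_pair k hdim.le hI hL', inum_swap k hI hL', inum_inv k hdim.le hL e hI, Curv2.deg] at hk
  rw [curveCl, map_neg, form_clR hdim B hB hL hI, ← Int.cast_neg, hk, inumOn_single]
  push_cast
  ring

include hdim hB in
/-- Nef classes pair nonnegatively with effective ones. -/
theorem form_nonneg_of_section {x : N1R k X} (hx : x ∈ nefCone₂ k X B) {L : X.Modules} (hL : PicF.IsInvertible L)
    {n : ℕ} (hn : 0 < n) (h0 : Nontrivial (Coh.HH X (CohB1.tensorPow L n) 0)) :
    0 ≤ B (clR k X L hL) x := by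
  haveI : IsLocallyNoetherian X := LocallyOfFiniteType.isLocallyNoetherian (X ↘ Spec (CommRingCat.of k))
  obtain ⟨m', r, z, rfl⟩ := exists_sum x
  choose M hM hMz using fun i => exists_eq_cl (z i)
  obtain ⟨σ, hσ⟩ := nonzero_section_of_HH h0
  have hLn := InvPow.isInvertible_tensorPow hL n
  have hl : Inv [Coh.structureModule X] := fun A hA => by
    rw [List.mem_singleton.1 hA]; exact HilbPoly.isInvertible_structureModule X
  obtain ⟨hQ, hQd, -, -⟩ := inum_cut k hLn σ hσ hl (hdim.le.trans (by simp))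
  obtain ⟨ι, _, m, W, j, hj, -, hsum⟩ := inum_eq_sum_subvarieties k hl hQ hQd
  have key : ∀ i, (n : ℝ) * B (clR k X L hL) (toN1R k X (z i)) = ∑ c, (m c : ℝ) * (inumOn k (j c) [M i] : ℝ) := by
    intro i
    have hl' : Inv [M i] := fun A hA => by rw [List.mem_singleton.1 hA]; exact hM i
    obtain ⟨-, -, -, e⟩ := inum_cut k hLn σ hσ hl' (hdim.le.trans (by simp))
    rw [inum_pow k hdim.le hL (hM i), hsum _ hl' rfl] at e
    rw [hMz i, ← clR_def, form_clR hdim B hB hL (hM i)]
    exact_mod_cast e
  have hn' : (0 : ℝ) < n := by exact_mod_cast hn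
  refine nonneg_of_mul_nonneg_right (a := (n : ℝ)) ?_ hn'
  simp only [map_sum, map_smul, smul_eq_mul, Finset.mul_sum]
  have e1 : ∀ i, (n : ℝ) * (r i * B (clR k X L hL) (toN1R k X (z i))) =
      ∑ c, (m c : ℝ) * (r i * (inumOn k (j c) [M i] : ℝ)) := fun i => by
    rw [mul_left_comm, key i, Finset.mul_sum]
    exact Finset.sum_congr rfl fun c _ => by ring
  simp only [e1]
  rw [Finset.sum_comm]
  refine Finset.sum_nonneg fun c _ => ?_
  rw [← Finset.mul_sum]
  refine mul_nonneg (Nat.cast_nonneg _) ?_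
  obtain ⟨h1, h2, -, h4⟩ := hj c
  haveI := h1
  haveI := h2
  have hd1 : topologicalKrullDim (W c) = 1 := h4.trans (by simp)
  have hI := isInvertible_idealMod_of_regular hdim (fun y =>
    CohDual.SmoothEquidim.isRegularLocalRing_stalk (X ↘ Spec (CommRingCat.of k)) y) (j c) hd1
  haveI : Nonempty (j c).ker.subscheme := ⟨(j c).toImage (genericPoint (W c))⟩
  haveI : IsIso (j c).toImage := inferInstance
  have hint : IsIntegral (j c).ker.subscheme := isIntegral_of_isOpenImmersion (inv (j c).toImage)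
  have hdim1 : topologicalKrullDim ((j c).ker.support : Set X) = 1 := by
    rw [Scheme.Hom.support_ker, (j c).isClosedEmbedding.isClosed_range.closure_eq, ← CurveDeg.dim_source (j c), hd1]
  have hnef := hx (j c).ker hint hdim1 hI
  simp only [map_sum, map_smul, LinearMap.sum_apply, LinearMap.smul_apply, smul_eq_mul] at hnef
  refine hnef.trans (le_of_eq (Finset.sum_congr rfl fun i _ => ?_))
  rw [hMz i, ← clR_def, form_curve hdim B hB (hM i) (j c) rfl hI]

include hdim hB hH in
/-- A nef class has nonnegative degree against an ample class. -/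
theorem form_ample_nonneg {x : N1R k X} (hx : x ∈ nefCone₂ k X B) : 0 ≤ B x (clR k X H hH.1) := by
  rw [form_symm hdim B hB]
  obtain ⟨W, hW, hdual⟩ := exists_canonical hdim (fun y =>
    CohDual.SmoothEquidim.isRegularLocalRing_stalk (X ↘ Spec (CommRingCat.of k)) y) (exists_embedding k hH)
  have hpos : 0 < inum k [H, H] (Coh.structureModule X) := by
    have := form_ample_pos hdim B hB H hH
    rw [form_clR hdim B hB hH.1 hH.1] at this
    exact_mod_cast this
  obtain ⟨N, hN⟩ := eventually_sections k hdim.le hW hdual hH.1 hH hpos hpos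
  exact form_nonneg_of_section hdim B hB hx hH.1 (Nat.succ_pos N) (hN _ (Nat.le_succ N))

include hdim hB hH in
/-- A curve has positive degree against an ample class. -/
theorem form_ample_curve_pos {I : X.IdealSheafData} (hint : IsIntegral I.subscheme)
    (hd : topologicalKrullDim (I.support : Set X) = 1) (hI : PicF.IsInvertible (ClSub.idealMod I)) :
    0 < B (clR k X H hH.1) (curveCl k X I hI) := by
  rw [form_curve hdim B hB hH.1 I.subschemeι (Scheme.IdealSheafData.ker_subschemeι I) hI, Int.cast_pos]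
  have hd1 : topologicalKrullDim I.subscheme = ((1 : ℕ) : WithBot ℕ∞) := by
    rw [CurveDeg.dim_source I.subschemeι, Scheme.IdealSheafData.range_subschemeι, hd, Nat.cast_one]
  exact inumOn_pos_of_isAmple k hH I.subschemeι hd1

variable [Module.Finite ℝ (N1R k X)]

include hdim hB hH in
/-- A positive class is uniformly positive on all but finitely many curves. -/
theorem exists_finite_bound {x : N1R k X} (hx : x ∈ posCone k X B H hH.1) :
    ∃ ε : ℝ, 0 < ε ∧ ∃ F : Finset X.IdealSheafData, ∀ (I : X.IdealSheafData), IsIntegral I.subscheme →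
      topologicalKrullDim (I.support : Set X) = 1 → ∀ hI : PicF.IsInvertible (ClSub.idealMod I), I ∉ F →
        ε * B (clR k X H hH.1) (curveCl k X I hI) ≤ B x (curveCl k X I hI) := by
  classical
  obtain ⟨W, hW, hdual⟩ := exists_canonical hdim (fun y =>
    CohDual.SmoothEquidim.isRegularLocalRing_stalk (X ↘ Spec (CommRingCat.of k)) y) (exists_embedding k hH)
  haveI : IsLocallyNoetherian X := LocallyOfFiniteType.isLocallyNoetherian (X ↘ Spec (CommRingCat.of k))
  haveI : CompactSpace X := QuasiCompact.compactSpace_of_compactSpace (X ↘ Spec (CommRingCat.of k))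
  haveI : IsNoetherian X := ⟨⟩
  let K : ConvexCone ℝ (N1R k X) :=
    { carrier := {v | ∃ F : Finset X.IdealSheafData, ∀ (I : X.IdealSheafData), IsIntegral I.subscheme →
        topologicalKrullDim (I.support : Set X) = 1 → ∀ hI : PicF.IsInvertible (ClSub.idealMod I), I ∉ F →
          0 ≤ B v (curveCl k X I hI)}
      smul_mem' := fun c hc v ⟨F, hF⟩ => ⟨F, fun I h1 h2 hI h3 => by
        rw [map_smul, LinearMap.smul_apply, smul_eq_mul]
        exact mul_nonneg hc.le (hF I h1 h2 hI h3)⟩
      add_mem' := fun v ⟨F, hF⟩ v' ⟨F', hF'⟩ => ⟨F ∪ F', fun I h1 h2 hI h3 => by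
        rw [Finset.mem_union, not_or] at h3
        rw [map_add, LinearMap.add_apply]
        exact add_nonneg (hF I h1 h2 hI h3.1) (hF' I h1 h2 hI h3.2)⟩ }
  have hPsub : ∀ v ∈ posCone k X B H hH.1, v ∈ K := fun v hv => by
    refine (show ConvexCone.hull ℝ {v : N1R k X | v ∈ posCone k X B H hH.1 ∧
      ∃ (L : X.Modules) (hL : PicF.IsInvertible L), v = clR k X L hL} ≤ K from ConvexCone.hull_min ?_)
      (mem_hull_integral (isOpen_posCone hdim B hB H hH) (fun c hc y hy => ⟨by
          simp only [map_smul, LinearMap.smul_apply, smul_eq_mul]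
          exact mul_pos hc (mul_pos hc hy.1), by
          simp only [map_smul, LinearMap.smul_apply, smul_eq_mul]
          exact mul_pos hc hy.2⟩) hv)
    rintro _ ⟨⟨hLL, hLH⟩, L, hL, rfl⟩
    rw [form_clR hdim B hB hL hL, Int.cast_pos] at hLL
    rw [form_clR hdim B hB hL hH.1, Int.cast_pos] at hLH
    obtain ⟨N, hN⟩ := eventually_sections k hdim.le hW hdual hL hH hLL hLH
    obtain ⟨σ, hσ⟩ := nonzero_section_of_HH (hN (N + 1) (Nat.le_succ N))
    have hne := CurveDeg.genOpen_nonempty_of_ne_zero (InvPow.isInvertible_tensorPow hL (N + 1)) hσ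
    let Z : Set X := (genOpen (InvPow.isInvertible_tensorPow hL (N + 1)) σ : Set X)ᶜ
    have hfin := finite_curves_le hdim (Z := Z) (genOpen _ σ).2.isClosed_compl (by
      obtain ⟨y, hy⟩ := hne
      intro h
      exact (h.ge (Set.mem_univ y)) hy)
    refine ⟨hfin.toFinset, fun I h1 h2 hI h3 => ?_⟩
    haveI := h1
    rw [form_curve hdim B hB hL I.subschemeι (Scheme.IdealSheafData.ker_subschemeι I) hI, Int.cast_nonneg_iff]
    have hd1 : topologicalKrullDim I.subscheme = 1 := by
      rw [CurveDeg.dim_source I.subschemeι, Scheme.IdealSheafData.range_subschemeι, h2]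
    refine inumOn_nonneg_of_section hL (Nat.succ_pos N) σ I.subschemeι hd1 ?_
    by_contra hempty
    refine h3 (hfin.mem_toFinset.2 ⟨h1, h2, fun y hy hy' => hempty ⟨y, ?_, hy'⟩⟩)
    rw [Scheme.IdealSheafData.range_subschemeι]
    exact hy
  have hU := (isOpen_posCone hdim B hB H hH).preimage
    (IsModuleTopology.continuous_of_linearMap (LinearMap.toSpanSingleton ℝ (N1R k X) (clR k X H hH.1)))
  haveI : IsTopologicalAddGroup (N1R k X) := IsModuleTopology.topologicalAddGroup ℝ _
  have hc : Continuous fun t : ℝ => x - t • clR k X H hH.1 :=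
    continuous_const.sub (IsModuleTopology.continuous_of_linearMap
      (LinearMap.toSpanSingleton ℝ (N1R k X) (clR k X H hH.1)))
  have hev : ∀ᶠ t : ℝ in nhdsWithin 0 (Set.Ioi 0), x - t • clR k X H hH.1 ∈ posCone k X B H hH.1 :=
    nhdsWithin_le_nhds ((hc.tendsto 0).eventually ((isOpen_posCone hdim B hB H hH).mem_nhds (by simpa using hx)))
  obtain ⟨ε, hεpos, hε⟩ := (eventually_mem_nhdsWithin.and hev).exists
  obtain ⟨F, hF⟩ := hPsub _ hε
  refine ⟨ε, hεpos, F, fun I h1 h2 hI h3 => ?_⟩
  have := hF I h1 h2 hI h3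
  simp only [map_sub, map_smul, LinearMap.sub_apply, LinearMap.smul_apply, smul_eq_mul] at this
  linarith

include hdim hB hH in
/-- Classes with positive square, positive on all curves, are ample. -/
theorem mem_ampleCone_of_pos {x : N1R k X} (hxx : 0 < B x x)
    (hC : ∀ (I : X.IdealSheafData), IsIntegral I.subscheme → topologicalKrullDim (I.support : Set X) = 1 →
      ∀ hI : PicF.IsInvertible (ClSub.idealMod I), 0 < B x (curveCl k X I hI)) :
    x ∈ ampleCone k X := by
  classical
  haveI : IsTopologicalAddGroup (N1R k X) := IsModuleTopology.topologicalAddGroup ℝ _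
  haveI : IsLocallyNoetherian X := LocallyOfFiniteType.isLocallyNoetherian (X ↘ Spec (CommRingCat.of k))
  let P : Set (N1R k X) := {y | 0 < B y y ∧ ∀ (I : X.IdealSheafData), IsIntegral I.subscheme →
    topologicalKrullDim (I.support : Set X) = 1 → ∀ hI : PicF.IsInvertible (ClSub.idealMod I),
      0 < B y (curveCl k X I hI)}
  have hPo : IsOpen P := by
    rw [isOpen_iff_mem_nhds]
    rintro y ⟨hyy, hyC⟩
    have hnef : y ∈ nefCone₂ k X B := fun I h1 h2 hI => (hyC I h1 h2 hI).le
    have hypos : y ∈ posCone k X B H hH.1 := ⟨hyy, lt_of_le_of_ne (form_ample_nonneg hdim B hB H hH hnef) fun h =>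
      absurd (form_eq_zero_of_perp hdim B hB H hH y h.symm hyy.le) (by rintro rfl; simp at hyy)⟩
    obtain ⟨ε, hε, F, hF⟩ := exists_finite_bound hdim B hB H hH hypos
    have hev : ∀ᶠ t : ℝ in nhdsWithin 0 (Set.Ioi 0), ∀ I ∈ F, ∀ (hint : IsIntegral I.subscheme)
        (hd : topologicalKrullDim (I.support : Set X) = 1) (hI : PicF.IsInvertible (ClSub.idealMod I)),
        t * B (clR k X H hH.1) (curveCl k X I hI) < B y (curveCl k X I hI) := by
      refine F.eventually_all.2 fun I _ => nhdsWithin_le_nhds ?_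
      by_cases h : IsIntegral I.subscheme ∧ topologicalKrullDim (I.support : Set X) = 1 ∧
          PicF.IsInvertible (ClSub.idealMod I)
      · obtain ⟨h1, h2, h3⟩ := h
        have hc : Continuous fun t : ℝ => t * B (clR k X H hH.1) (curveCl k X I h3) := continuous_id.mul continuous_const
        filter_upwards [(hc.tendsto 0).eventually (Iio_mem_nhds (by simpa using hyC I h1 h2 h3))] with t ht
        exact fun _ _ _ => ht
      · exact Filter.Eventually.of_forall fun t h1 h2 h3 => absurd ⟨h1, h2, h3⟩ h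
    obtain ⟨δ, ⟨hδ0, hδε⟩, hδ⟩ := ((Filter.Eventually.and (eventually_mem_nhdsWithin (α := ℝ) (a := 0) (s := Set.Ioi 0))
      (nhdsWithin_le_nhds (Iio_mem_nhds hε))).and hev).exists
    have hmem : δ • clR k X H hH.1 ∈ ampleCone k X :=
      (ampleCone k X).smul_mem hδ0 (ConvexCone.subset_hull ⟨H, hH.1, hH, rfl⟩)
    have h1 : Continuous fun v : N1R k X => B v v :=
      (IsModuleTopology.continuous_bilinear_of_finite_left B).comp (continuous_id.prodMk continuous_id)
    have h2 : Continuous fun v : N1R k X => v - y + δ • clR k X H hH.1 :=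
      (continuous_id.sub continuous_const).add continuous_const
    refine Filter.mem_of_superset (((isOpen_lt continuous_const h1).inter (isOpen_ampleCone.preimage h2)).mem_nhds
      ⟨hyy, by simpa using hmem⟩) ?_
    rintro v ⟨hv, hvA⟩
    refine ⟨hv, fun I hint hd hI => ?_⟩
    have hA : 0 ≤ B (v - y + δ • clR k X H hH.1) (curveCl k X I hI) := by
      let C : ConvexCone ℝ (N1R k X) :=
        { carrier := {w | 0 ≤ B w (curveCl k X I hI)}
          smul_mem' := fun c hc w (hw : 0 ≤ B w (curveCl k X I hI)) => by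
            show 0 ≤ B (c • w) (curveCl k X I hI)
            rw [map_smul, LinearMap.smul_apply, smul_eq_mul]; exact mul_nonneg hc.le hw
          add_mem' := fun w (hw : 0 ≤ B w (curveCl k X I hI)) w' (hw' : 0 ≤ B w' (curveCl k X I hI)) => by
            show 0 ≤ B (w + w') (curveCl k X I hI)
            rw [map_add, LinearMap.add_apply]; exact add_nonneg hw hw' }
      refine (show ampleCone k X ≤ C from ConvexCone.hull_min ?_) hvA
      rintro _ ⟨L, hL, hamp, rfl⟩
      exact (form_ample_curve_pos hdim B hB L hamp hint hd hI).le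
    simp only [map_add, map_sub, map_smul, LinearMap.add_apply, LinearMap.sub_apply, LinearMap.smul_apply,
      smul_eq_mul] at hA
    have hlt : δ * B (clR k X H hH.1) (curveCl k X I hI) < B y (curveCl k X I hI) := by
      by_cases hIF : I ∈ F
      · exact hδ I hIF hint hd hI
      · exact (mul_lt_mul_of_pos_right hδε (form_ample_curve_pos hdim B hB H hH hint hd hI)).trans_le (hF I hint hd hI hIF)
    linarith
  refine (show ConvexCone.hull ℝ {v : N1R k X | v ∈ P ∧ ∃ (L : X.Modules) (hL : PicF.IsInvertible L), v = clR k X L hL} ≤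
    ampleCone k X from ConvexCone.hull_min ?_) (mem_hull_integral hPo (fun c hc y hy => ⟨by
      simp only [map_smul, LinearMap.smul_apply, smul_eq_mul]
      exact mul_pos hc (mul_pos hc hy.1), fun I h1 h2 hI => by
      simp only [map_smul, LinearMap.smul_apply, smul_eq_mul]
      exact mul_pos hc (hy.2 I h1 h2 hI)⟩) (show x ∈ P from ⟨hxx, hC⟩))
  rintro _ ⟨⟨hLL, hLC⟩, L, hL, rfl⟩
  refine ConvexCone.subset_hull ⟨L, hL, ?_, rfl⟩
  rw [form_clR hdim B hB hL hL, Int.cast_pos] at hLL
  refine isAmple_of_pos hdim hL hLL fun W j _ _ hW => ?_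
  have hI := isInvertible_idealMod_of_regular hdim (fun y =>
    CohDual.SmoothEquidim.isRegularLocalRing_stalk (X ↘ Spec (CommRingCat.of k)) y) j hW
  haveI : Nonempty j.ker.subscheme := ⟨j.toImage (genericPoint W)⟩
  haveI : IsIso j.toImage := inferInstance
  have hint : IsIntegral j.ker.subscheme := isIntegral_of_isOpenImmersion (inv j.toImage)
  have hd1 : topologicalKrullDim (j.ker.support : Set X) = 1 := by
    rw [Scheme.Hom.support_ker, j.isClosedEmbedding.isClosed_range.closure_eq, ← CurveDeg.dim_source j, hW]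
  have h := hLC j.ker hint hd1 hI
  rw [form_curve hdim B hB hL j rfl hI, Int.cast_pos] at h
  exact h

end Groth.Agent.SurfRR
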