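import Groth.Agent.SurfRR.Effective
import Groth.Agent.SurfRR.Setup
import Groth.Agent.SurfRR.Embed
import Groth.Agent.SurfRR.CurveInt
import Groth.Agent.SurfRR.CurveCartier
import Groth.Agent.CohDual.SmoothEquidim
import Groth.Agent.IntTh.Nakai
import Groth.Agent.IntTh.Positive
import Groth.Prelude.Def_NumR
import Mathlib.Topology.Algebra.Module.ModuleTopology

/-!
# The intersection form on real numerical classes: signature
-/

set_option autoImplicit false
set_option linter.style.haveILetI false

universe u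

open CategoryTheory CategoryTheory.Limits AlgebraicGeometry NumR

namespace Groth.Agent.SurfRR

open Groth.Agent.HilbPoly Groth.Agent.IntTh

variable {k : Type u} [Field k] [IsAlgClosed k] {X : Scheme.{u}} [X.Over (Spec (CommRingCat.of k))]
  [IsProper (X ↘ (Spec (CommRingCat.of k)))] [Smooth (X ↘ (Spec (CommRingCat.of k)))] [IsIntegral X]
  (hdim : topologicalKrullDim X = 2) [PicGrp.Law X]
  (B : N1R k X →ₗ[ℝ] N1R k X →ₗ[ℝ] ℝ) (hB : IsIntForm₂ k X B) (H : X.Modules) (hH : CohB1.IsAmple H)

include hdim in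
omit [IsAlgClosed k] [PicGrp.Law X] in
/-- A module orthogonal to all modules is numerically trivial. -/
theorem isNumEquivZero_of_inum {L : X.Modules} (hL : PicF.IsInvertible L)
    (h : ∀ M : X.Modules, PicF.IsInvertible M → inum k [L, M] (Coh.structureModule X) = 0) :
    Pic13.IsNumEquivZero k X L := fun Y i _ hY hd => by
  haveI := hY
  haveI : IsLocallyNoetherian X := LocallyOfFiniteType.isLocallyNoetherian (X ↘ Spec (CommRingCat.of k))
  have hI := isInvertible_idealMod_of_regular hdim (fun x =>
    CohDual.SmoothEquidim.isRegularLocalRing_stalk (X ↘ Spec (CommRingCat.of k)) x) i hd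
  obtain ⟨L', ⟨e⟩⟩ := NegVanish.exists_inverse hL
  have hL' : PicF.IsInvertible L' := NegVanish.isInvertible_of_inverse hL ⟨e⟩
  have hk := intNum_ideal_inverse k hdim.le i hI hL e
  rw [intNum_pair k hdim.le hI hL', inum_swap k hI hL', inum_inv k hdim.le hL e hI, h _ hI] at hk
  rw [curveDeg_eq_inumOn k hL i hd, inumOn_single]
  rw [Curv2.deg] at hk
  push_cast at hk
  linarith

include hdim hB in
omit [IsAlgClosed k] in
theorem form_clR {L M : X.Modules} (hL : PicF.IsInvertible L) (hM : PicF.IsInvertible M) :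
    B (clR k X L hL) (clR k X M hM) = (inum k [L, M] (Coh.structureModule X) : ℝ) := by
  rw [hB L M hL hM, intNum_pair k hdim.le hL hM]

omit [IsAlgClosed k] [IsProper (X ↘ (Spec (CommRingCat.of k)))] [Smooth (X ↘ (Spec (CommRingCat.of k)))] [IsIntegral X] in
/-- Real classes are combinations of integral ones. -/
theorem exists_sum (x : N1R k X) :
    ∃ (n : ℕ) (r : Fin n → ℝ) (z : Fin n → N1 k X), x = ∑ i, r i • toN1R k X (z i) := by
  have hx : x ∈ Submodule.span ℝ {x : N1R k X | ∃ (L : X.Modules) (hL : PicF.IsInvertible L), x = clR k X L hL} := by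
    rw [span_clR]; trivial
  obtain ⟨n, f, g, rfl⟩ := Submodule.mem_span_set'.1 hx
  choose L hL hg using fun i => (g i).2
  exact ⟨n, f, fun i => cl k X (L i) (hL i), Finset.sum_congr rfl fun i _ => by rw [hg i]; rfl⟩

include hdim hB in
omit [IsAlgClosed k] in
/-- The form is symmetric. -/
theorem form_symm (x y : N1R k X) : B x y = B y x := by
  have : B = B.flip := by
    refine LinearMap.ext_on (span_clR (k := k) (X := X)) ?_
    rintro _ ⟨L, hL, rfl⟩
    refine LinearMap.ext_on (span_clR (k := k) (X := X)) ?_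
    rintro _ ⟨M, hM, rfl⟩
    rw [LinearMap.flip_apply, form_clR hdim B hB hL hM, form_clR hdim B hB hM hL, inum_swap k hL hM]
  conv_lhs => rw [this]
  rfl

include hdim hB hH in
omit [IsAlgClosed k] in
theorem form_ample_pos : 0 < B (clR k X H hH.1) (clR k X H hH.1) := by
  rw [form_clR hdim B hB hH.1 hH.1, Int.cast_pos]
  exact inum_pos_of_ample k (r := 2) rfl (fun A hA => by
    rcases List.mem_cons.1 hA with rfl | hA
    · exact hH
    · rw [List.mem_singleton.1 hA]; exact hH) (hdim.trans Nat.cast_ofNat.symm)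

include hdim hB hH in
/-- Hodge index on integral classes. -/
theorem form_int_nonpos (z : N1 k X) (hz : B (toN1R k X z) (clR k X H hH.1) = 0) :
    B (toN1R k X z) (toN1R k X z) ≤ 0 := by
  obtain ⟨L, hL, rfl⟩ := exists_eq_cl z
  obtain ⟨W, hW, hdual⟩ := exists_canonical hdim (fun x =>
    CohDual.SmoothEquidim.isRegularLocalRing_stalk (X ↘ Spec (CommRingCat.of k)) x) (exists_embedding k hH)
  change B (clR k X L hL) _ = 0 at hz
  change B (clR k X L hL) (clR k X L hL) ≤ 0
  rw [form_clR hdim B hB hL hH.1, Int.cast_eq_zero] at hz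
  rw [form_clR hdim B hB hL hL, Int.cast_nonpos]
  exact le_of_not_gt fun h => inum_ne_zero k hdim hW hdual hL hH h hz

include hdim hB hH in
/-- `(h·h)(x·x) ≤ (x·h)²` for all real classes. -/
theorem form_hodge (x : N1R k X) :
    B (clR k X H hH.1) (clR k X H hH.1) * B x x ≤ B x (clR k X H hH.1) ^ 2 := by
  let h := clR k X H hH.1
  have hint : ∀ z : N1 k X, B h h * B (toN1R k X z) (toN1R k X z) ≤ B (toN1R k X z) h ^ 2 := by
    intro z
    obtain ⟨L, hL, rfl⟩ := exists_eq_cl z
    let a := inum k [H, H] (Coh.structureModule X)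
    let b := inum k [L, H] (Coh.structureModule X)
    have ha : B h h = (a : ℝ) := form_clR hdim B hB hH.1 hH.1
    have hb : B (clR k X L hL) h = (b : ℝ) := form_clR hdim B hB hL hH.1
    have hmap : toN1R k X (a • cl k X L hL - b • cl k X H hH.1) = (a : ℝ) • clR k X L hL - (b : ℝ) • h := by
      rw [map_sub, map_zsmul, map_zsmul, Int.cast_smul_eq_zsmul, Int.cast_smul_eq_zsmul]
      rfl
    have h1 := form_int_nonpos hdim B hB H hH (a • cl k X L hL - b • cl k X H hH.1) (by
      rw [hmap]
      simp only [map_sub, map_smul, LinearMap.sub_apply, LinearMap.smul_apply, smul_eq_mul]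
      change (a : ℝ) * B (clR k X L hL) h - (b : ℝ) * B h h = 0
      rw [ha, hb]; ring)
    rw [hmap] at h1
    simp only [map_sub, map_smul, LinearMap.sub_apply, LinearMap.smul_apply, smul_eq_mul] at h1
    rw [form_symm hdim B hB h (clR k X L hL), ha, hb] at h1
    have hpos : (0 : ℝ) < a := ha ▸ form_ample_pos hdim B hB H hH
    change B h h * B (clR k X L hL) (clR k X L hL) ≤ B (clR k X L hL) h ^ 2
    rw [ha, hb]
    nlinarith
  obtain ⟨n, r, z, rfl⟩ := exists_sum x
  let v := fun i => toN1R k X (z i)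
  let f : (Fin n → ℝ) → ℝ := fun s =>
    B h h * (∑ i, ∑ j, s i * s j * B (v i) (v j)) - (∑ i, s i * B (v i) h) ^ 2
  have hf : ∀ s : Fin n → ℝ, f s = B h h * B (∑ i, s i • v i) (∑ j, s j • v j) - B (∑ i, s i • v i) h ^ 2 := by
    intro s
    simp only [f, map_sum, map_smul, LinearMap.sum_apply, LinearMap.smul_apply, smul_eq_mul, Finset.mul_sum]
    congr 1
    rw [Finset.sum_comm]
    refine Finset.sum_congr rfl fun i _ => Finset.sum_congr rfl fun j _ => ?_
    ring
  have hcont : Continuous f := by fun_prop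
  let a : ℕ → Fin n → ℝ := fun m i => (⌊(m : ℝ) * r i⌋ : ℝ) / (m : ℝ)
  have hlim : Filter.Tendsto a Filter.atTop (nhds r) := by
    refine tendsto_pi_nhds.2 fun i => ?_
    have h1 : Filter.Tendsto (fun m : ℕ => r i - 1 / (m : ℝ)) Filter.atTop (nhds (r i - 0)) :=
      tendsto_const_nhds.sub tendsto_one_div_atTop_nhds_zero_nat
    rw [sub_zero] at h1
    refine tendsto_of_tendsto_of_tendsto_of_le_of_le' h1 tendsto_const_nhds ?_ ?_
    · filter_upwards [Filter.eventually_gt_atTop 0] with m hm
      have hm' : (0 : ℝ) < m := by exact_mod_cast hm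
      rw [le_div_iff₀ hm', sub_mul, one_div, inv_mul_cancel₀ hm'.ne']
      nlinarith [Int.sub_one_lt_floor ((m : ℝ) * r i)]
    · filter_upwards [Filter.eventually_gt_atTop 0] with m hm
      have hm' : (0 : ℝ) < m := by exact_mod_cast hm
      rw [div_le_iff₀ hm']
      nlinarith [Int.floor_le ((m : ℝ) * r i)]
  have hneg : ∀ m, f (a m) ≤ 0 := fun m => by
    rw [hf]
    have hs : ∑ i, a m i • v i = ((m : ℝ)⁻¹) • toN1R k X (∑ i, ⌊(m : ℝ) * r i⌋ • z i) := by
      rw [map_sum, Finset.smul_sum]
      refine Finset.sum_congr rfl fun i _ => ?_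
      rw [map_zsmul, ← Int.cast_smul_eq_zsmul ℝ, smul_smul]
      simp only [a, v, div_eq_inv_mul]
    rw [hs]
    simp only [map_smul, LinearMap.smul_apply, smul_eq_mul]
    have := hint (∑ i, ⌊(m : ℝ) * r i⌋ • z i)
    nlinarith [mul_le_mul_of_nonneg_left this (sq_nonneg ((m : ℝ)⁻¹))]
  have := le_of_tendsto ((hcont.tendsto r).comp hlim) (Filter.Eventually.of_forall hneg)
  rw [hf] at this
  linarith

include hdim hB in
omit [IsAlgClosed k] in
/-- The form is nondegenerate. -/
theorem form_nondegenerate (x : N1R k X) (hx : ∀ y, B x y = 0) : x = 0 := by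
  obtain ⟨n, r, z, rfl⟩ := exists_sum x
  let b := Module.Basis.ofVectorSpace ℚ ℝ
  classical
  let s := Finset.univ.biUnion fun i => (b.repr (r i)).support
  have hr : ∀ i, r i = ∑ j ∈ s, ((b.repr (r i) j : ℚ) : ℝ) * b j := fun i => by
    conv_lhs => rw [← b.linearCombination_repr (r i)]
    rw [Finsupp.linearCombination_apply, Finsupp.sum_of_support_subset _
      (Finset.subset_biUnion_of_mem (fun i => (b.repr (r i)).support) (Finset.mem_univ i)) _ (by simp)]
    exact Finset.sum_congr rfl fun j _ => Rat.smul_def _ _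
  have hvanish : ∀ j ∈ s, ∑ i, ((b.repr (r i) j : ℚ) : ℝ) • toN1R k X (z i) = 0 := by
    intro j hj
    obtain ⟨D, hD⟩ := IsLocalization.exist_integer_multiples (nonZeroDivisors ℤ) Finset.univ fun i => b.repr (r i) j
    choose c hc using fun i => hD i (Finset.mem_univ i)
    have hD0 : ((D : ℤ) : ℝ) ≠ 0 := Int.cast_ne_zero.2 (nonZeroDivisors.coe_ne_zero D)
    have hc' : ∀ i, (c i : ℝ) = ((D : ℤ) : ℝ) * ((b.repr (r i) j : ℚ) : ℝ) := fun i => by
      have h := hc i
      rw [eq_intCast (algebraMap ℤ ℚ), zsmul_eq_mul] at h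
      exact_mod_cast h
    have hkey : ∑ i, ((b.repr (r i) j : ℚ) : ℝ) • toN1R k X (z i) =
        ((D : ℤ) : ℝ)⁻¹ • toN1R k X (∑ i, c i • z i) := by
      rw [map_sum, Finset.smul_sum]
      refine Finset.sum_congr rfl fun i _ => ?_
      rw [map_zsmul, ← Int.cast_smul_eq_zsmul ℝ, smul_smul, hc' i, inv_mul_cancel_left₀ hD0]
    rw [hkey]
    obtain ⟨L, hL, hzL⟩ := exists_eq_cl (∑ i, c i • z i)
    have hnum : ∀ M : X.Modules, PicF.IsInvertible M → inum k [L, M] (Coh.structureModule X) = 0 := by
      intro M hM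
      -- the rational coordinates of the vanishing pairings
      have hint : ∀ i, ∃ q : ℤ, B (toN1R k X (z i)) (clR k X M hM) = q := fun i => by
        obtain ⟨Li, hLi, hzi⟩ := exists_eq_cl (z i)
        exact ⟨_, by rw [hzi]; exact form_clR hdim B hB hLi hM⟩
      choose q hq using hint
      have h0 : ∑ j' ∈ s, (∑ i, (b.repr (r i) j' : ℚ) * (q i : ℚ)) • b j' = 0 := by
        have h := hx (clR k X M hM)
        simp only [map_sum, map_smul, LinearMap.sum_apply, LinearMap.smul_apply, smul_eq_mul, hq] at h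
        rw [← h]
        conv_rhs => enter [2, i]; rw [hr i, Finset.sum_mul]
        rw [Finset.sum_comm]
        refine Finset.sum_congr rfl fun j' _ => ?_
        rw [Rat.smul_def, Rat.cast_sum, Finset.sum_mul]
        refine Finset.sum_congr rfl fun i _ => ?_
        push_cast
        ring
      have h1 := linearIndependent_iff'.1 b.linearIndependent s _ h0 j hj
      have h1' : ∑ i, ((b.repr (r i) j : ℚ) : ℝ) * (q i : ℝ) = 0 := by
        exact_mod_cast h1
      have h2 : B (clR k X L hL) (clR k X M hM) = 0 := by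
        rw [clR_def, ← hzL]
        simp only [map_sum, map_zsmul, LinearMap.sum_apply, LinearMap.smul_apply, hq, zsmul_eq_mul, hc']
        calc ∑ i, ((D : ℤ) : ℝ) * ((b.repr (r i) j : ℚ) : ℝ) * (q i : ℝ)
            = ((D : ℤ) : ℝ) * ∑ i, ((b.repr (r i) j : ℚ) : ℝ) * (q i : ℝ) := by
              rw [Finset.mul_sum]; exact Finset.sum_congr rfl fun i _ => by ring
          _ = 0 := by rw [h1', mul_zero]
      rw [form_clR hdim B hB hL hM] at h2
      exact_mod_cast h2
    rw [hzL, cl_eq_zero hL (isNumEquivZero_of_inum hdim hL hnum), map_zero, smul_zero]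
  calc ∑ i, r i • toN1R k X (z i)
      = ∑ i, ∑ j ∈ s, (b j) • (((b.repr (r i) j : ℚ) : ℝ) • toN1R k X (z i)) := by
        refine Finset.sum_congr rfl fun i _ => ?_
        conv_lhs => rw [hr i, Finset.sum_smul]
        exact Finset.sum_congr rfl fun j _ => by rw [smul_smul, mul_comm]
    _ = ∑ j ∈ s, (b j) • ∑ i, ((b.repr (r i) j : ℚ) : ℝ) • toN1R k X (z i) := by
        rw [Finset.sum_comm]; exact Finset.sum_congr rfl fun j _ => (Finset.smul_sum).symm
    _ = 0 := Finset.sum_eq_zero fun j hj => by rw [hvanish j hj, smul_zero]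

include hdim hB hH in
/-- The form is negative definite on the orthogonal complement of an ample class. -/
theorem form_eq_zero_of_perp (x : N1R k X) (hxh : B x (clR k X H hH.1) = 0) (hxx : 0 ≤ B x x) : x = 0 := by
  let h := clR k X H hH.1
  have hpos := form_ample_pos hdim B hB H hH
  have hle := form_hodge hdim B hB H hH x
  rw [hxh] at hle
  have hxx0 : B x x = 0 := by nlinarith
  refine form_nondegenerate hdim B hB x fun y => ?_
  let w := B h h • y - B y h • h
  have hwh : B w h = 0 := by
    simp only [w, map_sub, map_smul, LinearMap.sub_apply, LinearMap.smul_apply, smul_eq_mul]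
    ring
  have hxw : B x w = B h h * B x y := by
    simp only [w, map_sub, map_smul, smul_eq_mul]
    rw [show B x h = 0 from hxh]
    ring
  have hq : ∀ t : ℝ, 2 * t * B x w + t ^ 2 * B w w ≤ 0 := fun t => by
    have h1 := form_hodge hdim B hB H hH (x + t • w)
    simp only [map_add, map_smul, LinearMap.add_apply, LinearMap.smul_apply, smul_eq_mul] at h1
    rw [show B x (clR k X H hH.1) = 0 from hxh, show B w (clR k X H hH.1) = 0 from hwh,
      form_symm hdim B hB w x, hxx0] at h1
    nlinarith
  have hww : B w w ≤ 0 := by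
    have h1 := form_hodge hdim B hB H hH w
    rw [show B w (clR k X H hH.1) = 0 from hwh] at h1
    nlinarith
  have h0 : B x w = 0 := by
    by_contra hne
    have hd : (0 : ℝ) < 1 - B w w := by linarith
    have h1 := hq (B x w / (1 - B w w))
    have h2 : 2 * (B x w / (1 - B w w)) * B x w + (B x w / (1 - B w w)) ^ 2 * B w w =
        B x w ^ 2 * (2 - B w w) / (1 - B w w) ^ 2 := by
      field_simp
      ring
    have h3 : 0 < B x w ^ 2 * (2 - B w w) / (1 - B w w) ^ 2 := by
      have : 0 < B x w ^ 2 := by positivity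
      have : 0 < 2 - B w w := by linarith
      positivity
    linarith
  rw [hxw] at h0
  exact (mul_eq_zero.1 h0).resolve_left hpos.ne'

end Groth.Agent.SurfRR
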